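import Groth.Agent.GRR.Chern
import Groth.Agent.Lambda.AdamsFil
import Mathlib.NumberTheory.Bernoulli
import Mathlib.RingTheory.PowerSeries.Exp

/-!
The Chern character of Bott's class is a quotient of Todd classes.
-/

set_option autoImplicit false
set_option linter.style.haveILetI false
set_option linter.unusedSectionVars false
set_option backward.isDefEq.respectTransparency false
set_option backward.isDefEq.respectTransparency.types false
set_option maxHeartbeats 800000

universe u

open Finset LambdaRing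

noncomputable section

namespace Groth.Agent.GRR

open Groth.Agent.KRRLam

section Series

variable {A : Type u} [CommRing A] [Algebra ℚ A]

/-- Evaluation of a power series at a nilpotent element, truncated at degree `D`. -/
def evS (D : ℕ) (h : A) (f : PowerSeries ℚ) : A := Polynomial.aeval h (PowerSeries.trunc (D + 1) f)

theorem evS_eq_sum (D : ℕ) (h : A) (f : PowerSeries ℚ) :
    evS D h f = ∑ k ∈ range (D + 1), PowerSeries.coeff k f • h ^ k := by
  rw [evS, PowerSeries.trunc_apply, map_sum, Nat.Ico_zero_eq_range]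
  exact Finset.sum_congr rfl fun k _ => by rw [Polynomial.aeval_monomial, ← Algebra.smul_def]

theorem evS_add (D : ℕ) (h : A) (f g : PowerSeries ℚ) : evS D h (f + g) = evS D h f + evS D h g := by
  rw [evS, evS, evS, map_add, map_add]

theorem evS_sum (D : ℕ) (h : A) {ι : Type*} (s : Finset ι) (f : ι → PowerSeries ℚ) :
    evS D h (∑ i ∈ s, f i) = ∑ i ∈ s, evS D h (f i) :=
  map_sum (AddMonoidHom.mk' (evS D h) (evS_add D h)) f s

theorem evS_mul {D : ℕ} {h : A} (hh : h ^ (D + 1) = 0) (f g : PowerSeries ℚ) :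
    evS D h (f * g) = evS D h f * evS D h g := by
  rw [evS, evS, evS, ← map_mul, ← sub_eq_zero, ← map_sub]
  obtain ⟨q, hq⟩ := (Polynomial.X_pow_dvd_iff (f := PowerSeries.trunc (D + 1) (f * g) -
      PowerSeries.trunc (D + 1) f * PowerSeries.trunc (D + 1) g) (n := D + 1)).2 fun k hk => by
    rw [Polynomial.coeff_sub, PowerSeries.coeff_trunc, if_pos hk,
      PowerSeries.coeff_mul_eq_coeff_trunc_mul_trunc f g hk, ← Polynomial.coe_mul, Polynomial.coeff_coe, sub_self]
  rw [hq, map_mul, map_pow, Polynomial.aeval_X, hh, zero_mul]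

theorem evS_smul (D : ℕ) (h : A) (c : ℚ) (f : PowerSeries ℚ) : evS D h (c • f) = c • evS D h f := by
  simp only [evS_eq_sum, map_smul, Finset.smul_sum, smul_smul, smul_eq_mul]

theorem evS_rescale (D : ℕ) (h : A) (c : ℚ) (f : PowerSeries ℚ) :
    evS D h (PowerSeries.rescale c f) = evS D (c • h) f := by
  simp only [evS_eq_sum, PowerSeries.coeff_rescale, smul_pow, smul_smul, mul_comm]

theorem evS_exp (D : ℕ) (h : A) : evS D h (PowerSeries.exp ℚ) = Polynomial.aeval h (KGr.expTrunc D) := by
  rw [evS_eq_sum, KGr.expTrunc, map_sum]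
  refine Finset.sum_congr rfl fun k _ => ?_
  rw [PowerSeries.coeff_exp, map_mul, Polynomial.aeval_C, map_pow, Polynomial.aeval_X, ← Algebra.smul_def]
  simp

theorem evS_todd (D : ℕ) (h : A) :
    evS D h (bernoulli'PowerSeries ℚ) = Polynomial.aeval h (KGr.toddTrunc D) := by
  rw [evS_eq_sum, KGr.toddTrunc, map_sum]
  refine Finset.sum_congr rfl fun k _ => ?_
  rw [bernoulli'PowerSeries, PowerSeries.coeff_mk, map_mul, Polynomial.aeval_C, map_pow, Polynomial.aeval_X,
    ← Algebra.smul_def]
  simp

theorem evS_anti {d D : ℕ} (hdD : d ≤ D) {h : A} (hh : h ^ (d + 1) = 0) (f : PowerSeries ℚ) :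
    evS D h f = evS d h f := by
  rw [evS_eq_sum, evS_eq_sum]
  refine (Finset.sum_subset (Finset.range_mono (by omega)) fun k _ hk => ?_).symm
  rw [Finset.mem_range] at hk
  rw [show k = (d + 1) + (k - (d + 1)) by omega, pow_add, hh, zero_mul, smul_zero]

/-- The identity of power series behind Bott's class. -/
theorem bott_series (j : ℕ) :
    (∑ a ∈ range j, PowerSeries.rescale (a : ℚ) (PowerSeries.exp ℚ)) *
        PowerSeries.rescale (-(j : ℚ)) (bernoulli'PowerSeries ℚ) =
      (j : ℚ) • PowerSeries.rescale (-1 : ℚ) (bernoulli'PowerSeries ℚ) := by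
  have hB : PowerSeries.rescale (-1 : ℚ) (bernoulli'PowerSeries ℚ) = bernoulliPowerSeries ℚ := by
    ext n
    simp only [PowerSeries.coeff_rescale, bernoulli'PowerSeries, bernoulliPowerSeries, PowerSeries.coeff_mk,
      Algebra.algebraMap_self, RingHom.id_apply, bernoulli]
    ring
  have hB' : PowerSeries.rescale (-(j : ℚ)) (bernoulli'PowerSeries ℚ) =
      PowerSeries.rescale (j : ℚ) (bernoulliPowerSeries ℚ) := by
    rw [← hB]
    ext n
    simp only [PowerSeries.coeff_rescale]
    rw [← mul_assoc, ← mul_pow, mul_neg_one]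
  have hne : PowerSeries.exp ℚ - 1 ≠ 0 := fun h => by
    have := congrArg (PowerSeries.coeff 1) h
    simp [PowerSeries.coeff_exp, PowerSeries.coeff_one] at this
  refine mul_right_cancel₀ hne ?_
  rw [hB', hB, smul_mul_assoc, bernoulliPowerSeries_mul_exp_sub_one]
  have hgeom : (∑ a ∈ range j, PowerSeries.rescale (a : ℚ) (PowerSeries.exp ℚ)) * (PowerSeries.exp ℚ - 1) =
      PowerSeries.rescale (j : ℚ) (PowerSeries.exp ℚ) - 1 := by
    simp only [← PowerSeries.exp_pow_eq_rescale_exp]
    exact geom_sum_mul _ _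
  rw [mul_right_comm, hgeom, ← map_one (PowerSeries.rescale (j : ℚ)), ← map_sub, ← map_mul, mul_comm,
    bernoulliPowerSeries_mul_exp_sub_one, PowerSeries.rescale_X]
  rw [PowerSeries.smul_eq_C_mul]

/-- Bott's class of a line with Chern class `h`. -/
theorem bott_scalar {D : ℕ} {h : A} (hh : h ^ (D + 1) = 0) (j : ℕ) :
    (∑ a ∈ range j, Polynomial.aeval ((a : ℚ) • h) (KGr.expTrunc D)) *
        Polynomial.aeval ((j : ℚ) • -h) (KGr.toddTrunc D) =
      (j : ℚ) • Polynomial.aeval (-h) (KGr.toddTrunc D) := by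
  have key := congrArg (evS D h) (bott_series j)
  rw [evS_mul hh, evS_sum, evS_smul, evS_rescale, evS_rescale, neg_one_smul, neg_smul, ← smul_neg] at key
  simpa only [evS_rescale, evS_exp, evS_todd] using key

end Series

variable {K : Type u} [CommRing K] [LambdaOps K] {P : PosStructure K}

theorem lc_mul {v w : K} (hv : P.IsLine v) (hw : P.IsLine w) : lc P (v * w) = lc P v + lc P w := by
  rw [lc, lc, lc, show v * w - 1 = (v - 1) * (w - 1) + ((v - 1) + (w - 1)) by ring,
    grK_add (Lambda.gammaFiltration_mul_mem _ (sub_one_mem hw)) (add_mem (sub_one_mem hv) (sub_one_mem hw)),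
    grK_succ (Lambda.gammaFiltration_mul (sub_one_mem hv) (sub_one_mem hw)), zero_add,
    grK_add (sub_one_mem hv) (sub_one_mem hw)]

theorem lc_one : lc P (1 : K) = 0 := by rw [lc, sub_self, grK_zero]

theorem lc_line_pow {v : K} (hv : P.IsLine v) : ∀ a : ℕ, lc P (v ^ a) = (a : ℚ) • lc P v
  | 0 => by rw [pow_zero, lc_one, Nat.cast_zero, zero_smul]
  | a + 1 => by rw [pow_succ, lc_mul (Lambda.line_pow hv a) hv, lc_line_pow hv a, Nat.cast_succ, add_smul, one_smul]

/-- The Chern character as a ring map. -/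
theorem chK_prod (hK : HasSplitting K P) {d : ℕ} (hd : gammaFiltration P (d + 1) = ⊥) (s : Multiset K) :
    KGr.chK P d s.prod = (s.map (KGr.chK P d)).prod := by
  induction s using Multiset.induction with
  | empty => simp [chK_one]
  | cons a s ih => rw [Multiset.prod_cons, chK_mul hK hd, ih, Multiset.map_cons, Multiset.prod_cons]

/-- The Chern character of Bott's class of a sum of lines, against the Todd class of the dual. -/
theorem chK_bott_lines (hK : HasSplitting K P) {d : ℕ} (hd : gammaFiltration P (d + 1) = ⊥) {j : ℕ}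
    {τ : KGr.Gr P →ₐ[ℚ] KGr.Gr P}
    (hτ : ∀ (n : ℕ) (a : K), a ∈ gammaFiltration P n → τ (KGr.grK P (n : ℤ) a) = (j : ℚ) ^ n • KGr.grK P (n : ℤ) a)
    (s : Multiset (K × K)) (hs : ∀ p ∈ s, P.IsLine p.1 ∧ P.IsLine p.2 ∧ p.2 * p.1 = 1) :
    KGr.chK P d (s.map fun p => ∑ a ∈ range j, p.1 ^ a).prod * τ (KGr.tdK P d (s.map Prod.snd).sum) =
      (j : ℚ) ^ s.card • KGr.tdK P d (s.map Prod.snd).sum := by
  classical
  set D := d + s.card
  have hd' : ∀ p ∈ s, ∀ w, P.IsLine w → lc P w ^ (d + 1) = 0 := fun _ _ w hw => lc_pow_eq_zero hd hw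
  have htd : KGr.tdK P d (s.map Prod.snd).sum =
      (s.map fun p => Polynomial.aeval (-lc P p.1) (KGr.toddTrunc d)).prod := by
    rw [← tdK_trunc hd (show d ≤ D by omega), tdK_sum_lines _ (fun w hw => by
      obtain ⟨p, hp, rfl⟩ := Multiset.mem_map.1 hw
      exact (hs p hp).2.1) (by simp [D]), Multiset.map_map]
    refine congrArg Multiset.prod (Multiset.map_congr rfl fun p hp => ?_)
    obtain ⟨h1, h2, h3⟩ := hs p hp
    rw [Function.comp_apply, lc_inv h1 h2 h3]
    exact ((evS_todd (A := KGr.Gr P) D _).symm.trans (evS_anti (show d ≤ D by omega)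
      (by rw [← lc_inv h1 h2 h3]; exact hd' p hp _ h2) _)).trans (evS_todd d _)
  have hch : ∀ p ∈ s, KGr.chK P d (∑ a ∈ range j, p.1 ^ a) =
      ∑ a ∈ range j, Polynomial.aeval ((a : ℚ) • lc P p.1) (KGr.expTrunc d) := fun p hp => by
    refine (map_sum (AddMonoidHom.mk' (KGr.chK P d) (chK_add d)) (fun a => p.1 ^ a) (range j)).trans ?_
    exact Finset.sum_congr rfl fun a _ => by
      show KGr.chK P d (p.1 ^ a) = _
      rw [chK_line d (Lambda.line_pow (hs p hp).1 a), lc_line_pow (hs p hp).1]
  have hterm : ∀ p ∈ s, KGr.chK P d (∑ a ∈ range j, p.1 ^ a) *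
      τ (Polynomial.aeval (-lc P p.1) (KGr.toddTrunc d)) =
      (j : ℚ) • Polynomial.aeval (-lc P p.1) (KGr.toddTrunc d) := fun p hp => by
    rw [hch p hp, ← Polynomial.aeval_algHom_apply, map_neg, tau_lc hτ (hs p hp).1, ← smul_neg]
    exact bott_scalar (A := KGr.Gr P) (hd' p hp _ (hs p hp).1) j
  rw [htd, chK_prod hK hd]
  have hmap : ∀ m : Multiset (KGr.Gr P), τ m.prod = (m.map τ).prod := fun m => by
    induction m using Multiset.induction with
    | empty => simp
    | cons a m ih => rw [Multiset.prod_cons, map_mul, ih, Multiset.map_cons, Multiset.prod_cons]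
  rw [hmap]
  simp only [Multiset.map_map, Function.comp_def]
  rw [← Multiset.prod_map_mul, Multiset.map_congr rfl hterm]
  clear hs hch hterm htd hd' D
  induction s using Multiset.induction with
  | empty => simp
  | cons b s ih =>
    rw [Multiset.map_cons, Multiset.prod_cons, ih, Multiset.map_cons, Multiset.prod_cons, Multiset.card_cons,
      smul_mul_smul_comm, ← pow_succ']

end Groth.Agent.GRR

namespace Groth.Agent.GRR

variable {K : Type u} [CommRing K] [LambdaOps K] {P : PosStructure K}

/-- Bott's class of a sum of lines. -/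
theorem bottN_sum_lines (s : Multiset K) (hs : ∀ w ∈ s, P.IsLine w) (j : ℕ) :
    MvPolynomial.aeval (fun i : Fin s.card => LambdaOps.lam (i.1 + 1) s.sum) (KRR.bottPoly j s.card) =
      (s.map fun v => ∑ a ∈ range j, v ^ a).prod := by
  obtain ⟨m, v, rfl⟩ : ∃ (m : ℕ) (v : Fin m → K), s = (univ : Finset (Fin m)).val.map v :=
    ⟨_, s.toList.get, by rw [Fin.univ_val_map, List.ofFn_get, Multiset.coe_toList]⟩
  have key : ∀ (N : ℕ) (_ : N = m), MvPolynomial.aeval
      (fun i : Fin N => LambdaOps.lam (i.1 + 1) ((univ : Finset (Fin m)).val.map v).sum) (KRR.bottPoly j N) =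
      (((univ : Finset (Fin m)).val.map v).map fun x => ∑ a ∈ range j, x ^ a).prod := by
    intro N hN
    subst hN
    let ev : MvPolynomial (Fin N) ℤ →ₐ[ℤ] K := MvPolynomial.aeval v
    have h : (fun i : Fin N => LambdaOps.lam (i.1 + 1) ((univ : Finset (Fin N)).val.map v).sum) =
        fun i => ev (MvPolynomial.esymm (Fin N) ℤ (i.1 + 1)) := funext fun i => by
      rw [Lambda.lam_sum_lines hs]
      show _ = MvPolynomial.aeval v _
      rw [MvPolynomial.aeval_esymm_eq_multiset_esymm]
    have key : MvPolynomial.aeval (fun i : Fin N => MvPolynomial.esymm (Fin N) ℤ (i.1 + 1)) (KRR.bottPoly j N) =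
        KRR.bottSym j N := by
      rw [KRR.bottPoly, ← MvPolynomial.esymmAlgHom_apply]
      exact congrArg Subtype.val (AlgEquiv.apply_symm_apply
        (MvPolynomial.esymmAlgEquiv (Fin N) ℤ (Fintype.card_fin _)) _)
    rw [h, ← MvPolynomial.comp_aeval_apply, key, KRR.bottSym, map_prod, Multiset.map_map]
    exact Finset.prod_congr rfl fun i _ => by simp [ev]
  exact key _ (by simp)

end Groth.Agent.GRR
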