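import Groth.Agent.KRRLam.Gr
import Groth.Agent.KRRLam.Todd
import Groth.Agent.Lambda.AdamsFil

/-!
Chern classes, Todd classes and Adams operations in the rational graded ring of the γ-filtration.
-/

set_option autoImplicit false
set_option linter.style.haveILetI false
set_option linter.unusedSectionVars false
set_option backward.isDefEq.respectTransparency false
set_option backward.isDefEq.respectTransparency.types false
set_option maxHeartbeats 800000

universe u

open Finset LambdaRing TensorProduct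
open Groth.Agent.Lambda (conv)

noncomputable section

namespace Groth.Agent.GRR

open Groth.Agent.KRRLam

theorem esymm_add {R : Type*} [CommRing R] (s t : Multiset R) (n : ℕ) :
    (s + t).esymm n = conv (fun i => s.esymm i) (fun i => t.esymm i) n := by
  induction s using Multiset.induction generalizing n with
  | empty =>
    simp only [zero_add, conv]
    rw [Finset.sum_range_succ', Finset.sum_eq_zero fun i _ => by
      rw [Lambda.esymm_eq_zero (0 : Multiset R) (by simp), zero_mul]]
    simp [Lambda.esymm_zero']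
  | cons a s ih =>
    rcases n with _ | n
    · simp [conv, Lambda.esymm_zero']
    · rw [Multiset.cons_add, Lambda.esymm_cons_succ, ih, ih]
      simp only [conv]
      rw [Finset.sum_range_succ' (fun i => (a ::ₘ s).esymm i * t.esymm (n + 1 - i)),
        Finset.sum_range_succ' (fun i => s.esymm i * t.esymm (n + 1 - i)), Finset.mul_sum]
      simp only [Lambda.esymm_cons_succ, Nat.add_sub_add_right, add_mul, Finset.sum_add_distrib,
        Lambda.esymm_zero', mul_assoc]
      ring

variable {K : Type u} [CommRing K] [LambdaOps K] {P : PosStructure K}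

theorem gamma_aug_mem (x : K) (i : ℕ) : gamma i (x - (P.aug x : K)) ∈ gammaFiltration P i := by
  simpa using Lambda.prod_gamma_mem (P := P) (n := i) [(i, x - (P.aug x : K))] (by simp) (by simp)

theorem grK_zero_one : KGr.grK P ((0 : ℕ) : ℤ) (1 : K) = 1 := by
  have h := grK_intCast (P := P) 1
  rwa [Int.cast_one, Int.cast_one, map_one] at h

theorem chern_zero (x : K) : KGr.chern P 0 x = 1 := by
  rw [KGr.chern, Lambda.gamma_zero]; exact grK_zero_one

theorem grK_sum {ι : Type*} {n : ℕ} (s : Finset ι) (f : ι → K) (hf : ∀ i ∈ s, f i ∈ gammaFiltration P n) :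
    KGr.grK P (n : ℤ) (∑ i ∈ s, f i) = ∑ i ∈ s, KGr.grK P (n : ℤ) (f i) := by
  classical
  induction s using Finset.induction with
  | empty => simpa using grK_zero n
  | insert a s ha ih =>
    rw [Finset.sum_insert ha, Finset.sum_insert ha, grK_add (hf a (Finset.mem_insert_self a s))
      (sum_mem fun i hi => hf i (Finset.mem_insert_of_mem hi)), ih fun i hi => hf i (Finset.mem_insert_of_mem hi)]

theorem chern_add (x y : K) (n : ℕ) :
    KGr.chern P n (x + y) = conv (fun i => KGr.chern P i x) (fun i => KGr.chern P i y) n := by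
  have h : x + y - (P.aug (x + y) : K) = (x - (P.aug x : K)) + (y - (P.aug y : K)) := by
    rw [map_add]; push_cast; ring
  have hg := congrArg (PowerSeries.coeff n) (Lambda.gammaSeries_add (x - (P.aug x : K)) (y - (P.aug y : K)))
  rw [← h, PowerSeries.coeff_mul, Finset.Nat.sum_antidiagonal_eq_sum_range_succ_mk] at hg
  simp only [Lambda.gammaSeries, PowerSeries.coeff_mk] at hg
  have hmem : ∀ i ∈ range (n + 1), gamma i (x - (P.aug x : K)) * gamma (n - i) (y - (P.aug y : K)) ∈
      gammaFiltration P n := fun i hi => by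
    have hi' := Finset.mem_range.1 hi
    exact Lambda.gammaFiltration_anti (show n ≤ i + (n - i) by omega)
      (Lambda.gammaFiltration_mul (gamma_aug_mem x i) (gamma_aug_mem y (n - i)))
  rw [KGr.chern, hg, grK_sum _ _ hmem, conv]
  refine Finset.sum_congr rfl fun i hi => ?_
  have hi' := Finset.mem_range.1 hi
  rw [KGr.chern, KGr.chern, grK_mul (gamma_aug_mem x i) (gamma_aug_mem y (n - i)), show i + (n - i) = n by omega]

theorem chern_natCast (m n : ℕ) : KGr.chern P (n + 1) (m : K) = 0 := by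
  rw [KGr.chern, map_natCast, Int.cast_natCast, sub_self]
  have := congrArg (PowerSeries.coeff (n + 1)) (Lambda.gammaSeries_zero (K := K))
  rw [Lambda.gammaSeries, PowerSeries.coeff_mk, PowerSeries.coeff_one, if_neg n.succ_ne_zero] at this
  rw [this, grK_zero]

theorem grK_eq_zero_of_gt {d : ℕ} (hd : gammaFiltration P (d + 1) = ⊥) {n : ℕ} (hn : d < n) {x : K}
    (hx : x ∈ gammaFiltration P n) : KGr.grK P (n : ℤ) x = 0 := by
  have := Lambda.gammaFiltration_anti hn hx
  rw [hd, AddSubgroup.mem_bot] at this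
  rw [this, grK_zero]

theorem chern_eq_zero {d : ℕ} (hd : gammaFiltration P (d + 1) = ⊥) (x : K) {i : ℕ} (hi : d < i) :
    KGr.chern P i x = 0 := by
  rw [KGr.chern]; exact grK_eq_zero_of_gt hd hi (gamma_aug_mem x i)

/-- The semiring structure underlying the ring structure. -/
local instance (priority := high) grSemiring : CommSemiring (KGr.Gr P) := CommRing.toCommSemiring

/-- The first Chern class of a line. -/
def lc (P : PosStructure K) (w : K) : KGr.Gr P := KGr.grK P ((1 : ℕ) : ℤ) (w - 1)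

theorem sub_one_mem {w : K} (hw : P.IsLine w) : w - 1 ∈ gammaFiltration P 1 :=
  Lambda.mem_gammaFiltration_one (by rw [map_sub, hw.2, map_one, sub_self])

theorem pow_sub_one_mem {w : K} (hw : P.IsLine w) : ∀ k, (w - 1) ^ k ∈ gammaFiltration P k
  | 0 => Lambda.gammaFiltration_zero _
  | k + 1 => by rw [pow_succ]; exact Lambda.gammaFiltration_mul (pow_sub_one_mem hw k) (sub_one_mem hw)

theorem lc_pow {w : K} (hw : P.IsLine w) : ∀ k : ℕ, KGr.grK P (k : ℤ) ((w - 1) ^ k) = lc P w ^ k
  | 0 => by rw [pow_zero, pow_zero]; exact grK_zero_one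
  | k + 1 => by
    rw [pow_succ, pow_succ, ← lc_pow hw k, lc, grK_mul (pow_sub_one_mem hw k) (sub_one_mem hw)]

theorem lc_pow_eq_zero {d : ℕ} (hd : gammaFiltration P (d + 1) = ⊥) {w : K} (hw : P.IsLine w) :
    lc P w ^ (d + 1) = 0 := by
  rw [← lc_pow hw]; exact grK_eq_zero_of_gt hd (Nat.lt_succ_self d) (pow_sub_one_mem hw _)

theorem lc_inv {w w' : K} (hw : P.IsLine w) (hw' : P.IsLine w') (h : w' * w = 1) : lc P w' = -lc P w := by
  rw [eq_neg_iff_add_eq_zero, lc, lc, ← grK_add (sub_one_mem hw') (sub_one_mem hw),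
    show w' - 1 + (w - 1) = -((w - 1) * (w' - 1)) by linear_combination h]
  exact grK_succ (neg_mem (Lambda.gammaFiltration_mul (sub_one_mem hw) (sub_one_mem hw')))

theorem chern_line {w : K} (hw : P.IsLine w) (i : ℕ) : KGr.chern P i w = ({lc P w} : Multiset (KGr.Gr P)).esymm i := by
  rcases i with _ | i
  · rw [chern_zero, Lambda.esymm_zero']
  rw [KGr.chern, hw.2, Int.cast_one]
  have h := Lambda.gamma_sum_lines (P := P) (s := {w}) (by simp [hw]) (i + 1)
  simp only [Multiset.sum_singleton, Multiset.card_singleton, Nat.cast_one, Multiset.map_singleton] at h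
  rw [h, ← Multiset.cons_zero, ← Multiset.cons_zero, Lambda.esymm_cons_succ, Lambda.esymm_cons_succ]
  rcases i with _ | i
  · simp [Lambda.esymm_zero', Lambda.esymm_eq_zero (0 : Multiset K), Lambda.esymm_eq_zero (0 : Multiset (KGr.Gr P)), lc]
  · simp [Lambda.esymm_eq_zero (0 : Multiset K), Lambda.esymm_eq_zero (0 : Multiset (KGr.Gr P)), grK_zero]
    exact grK_zero (P := P) (i + 2)

theorem chern_sum_lines (s : Multiset K) (hs : ∀ w ∈ s, P.IsLine w) :
    ∀ n, KGr.chern P n s.sum = (s.map (lc P)).esymm n := by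
  induction s using Multiset.induction with
  | empty =>
    intro n
    rcases n with _ | n
    · rw [chern_zero, Lambda.esymm_zero']
    · rw [Multiset.sum_zero, ← Nat.cast_zero, chern_natCast, Multiset.map_zero, Lambda.esymm_eq_zero _ (by simp)]
  | cons a s ih =>
    intro n
    rw [Multiset.sum_cons, chern_add, Multiset.map_cons, ← Multiset.singleton_add (lc P a), esymm_add]
    exact Finset.sum_congr rfl fun i _ => congrArg₂ (· * ·) (chern_line (hs a (Multiset.mem_cons_self a s)) i)
      (ih (fun w hw => hs w (Multiset.mem_cons_of_mem hw)) (n - i))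

theorem chK_line (d : ℕ) {w : K} (hw : P.IsLine w) :
    KGr.chK P d w = Polynomial.aeval (lc P w) (KGr.expTrunc d) := by
  rw [chK_eq, KGr.expTrunc, map_sum]
  refine Finset.sum_congr rfl fun k _ => ?_
  rw [chC_line hw, lc_pow hw, map_mul, Polynomial.aeval_C, map_pow, Polynomial.aeval_X, ← Algebra.smul_def]

/-! ### the Todd class -/

/-- The Todd polynomial on elementary symmetric functions of at most `D` elements. -/
theorem todd_esymm {A : Type u} [CommRing A] [Algebra ℚ A] {D : ℕ} (s : Multiset A) (hs : s.card ≤ D) :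
    MvPolynomial.aeval (fun i : Fin D => s.esymm (i.1 + 1)) (KGr.toddPoly D) =
      (s.map fun a => Polynomial.aeval a (KGr.toddTrunc D)).prod := by
  obtain ⟨m, v, rfl⟩ : ∃ (m : ℕ) (v : Fin m → A), s = (univ : Finset (Fin m)).val.map v :=
    ⟨_, s.toList.get, by rw [Fin.univ_val_map, List.ofFn_get, Multiset.coe_toList]⟩
  have hm : m ≤ D := by simpa using hs
  obtain ⟨T, hT1, hT2⟩ := exists_todd_rep.{u} m hm
  rw [hT2 A (fun i => ((univ : Finset (Fin m)).val.map v).esymm i) fun i hi =>
    Lambda.esymm_eq_zero _ (by simpa using hi)]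
  have h := congrArg (MvPolynomial.aeval v) hT1
  have hc : (MvPolynomial.aeval v).comp (MvPolynomial.aeval fun i : Fin m => MvPolynomial.esymm (Fin m) ℚ (i.1 + 1)) =
      MvPolynomial.aeval fun i : Fin m => ((univ : Finset (Fin m)).val.map v).esymm (i.1 + 1) := by
    refine MvPolynomial.algHom_ext fun i => ?_
    rw [AlgHom.comp_apply, MvPolynomial.aeval_X, MvPolynomial.aeval_X, MvPolynomial.aeval_esymm_eq_multiset_esymm]
  rw [← AlgHom.comp_apply, hc, map_prod] at h
  rw [h, Multiset.map_map]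
  exact Finset.prod_congr rfl fun i _ => by
    rw [← Polynomial.aeval_algHom_apply, MvPolynomial.aeval_X]; rfl

theorem tdK_sum_lines {D : ℕ} (s : Multiset K) (hs : ∀ w ∈ s, P.IsLine w) (hD : s.card ≤ D) :
    KGr.tdK P D s.sum = (s.map fun w => Polynomial.aeval (lc P w) (KGr.toddTrunc D)).prod := by
  rw [KGr.tdK, show (fun i : Fin D => KGr.chern P (i.1 + 1) s.sum) = fun i => (s.map (lc P)).esymm (i.1 + 1) from
    funext fun i => chern_sum_lines s hs _]
  refine (todd_esymm (A := KGr.Gr P) (s.map (lc P)) (by simpa using hD)).trans ?_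
  rw [Multiset.map_map]
  rfl

theorem tdK_natCast (D m : ℕ) : KGr.tdK P D (m : K) = 1 := by
  rw [KGr.tdK, show (fun i : Fin D => KGr.chern P (i.1 + 1) (m : K)) =
    fun i => (0 : Multiset (KGr.Gr P)).esymm (i.1 + 1) from funext fun i => by
      rw [chern_natCast, Lambda.esymm_eq_zero _ (by simp)]]
  exact (todd_esymm (A := KGr.Gr P) (0 : Multiset (KGr.Gr P)) (by simp)).trans (by simp)

/-- The truncation does not matter. -/
theorem tdK_trunc {d D : ℕ} (hd : gammaFiltration P (d + 1) = ⊥) (hdD : d ≤ D) (x : K) :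
    KGr.tdK P D x = KGr.tdK P d x := by
  obtain ⟨T, hT1, hT2⟩ := exists_todd_rep.{u} d hdD
  rw [KGr.tdK, hT2 (KGr.Gr P) (fun i => KGr.chern P i x) fun i hi => chern_eq_zero hd x hi, KGr.tdK, ← sub_eq_zero,
    ← map_sub]
  refine aeval_eq_zero_of_esymm_mem (m := d) (y := x - (P.aug x : K)) (gamma_aug_mem x) hd _ ?_
  rw [map_sub, hT1, KGr.toddPoly, ← MvPolynomial.esymmAlgHom_apply,
    show (MvPolynomial.esymmAlgHom (Fin d) ℚ d ((MvPolynomial.esymmAlgEquiv (Fin d) ℚ (Fintype.card_fin d)).symm
      ⟨_, KGr.isSymmetric_prod_aeval d (KGr.toddTrunc d)⟩) : MvPolynomial (Fin d) ℚ) = _ from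
      congrArg Subtype.val (AlgEquiv.apply_symm_apply (MvPolynomial.esymmAlgEquiv (Fin d) ℚ (Fintype.card_fin d)) _)]
  rw [← Ideal.Quotient.eq_zero_iff_mem, map_sub, sub_eq_zero, map_prod, map_prod]
  refine Finset.prod_congr rfl fun i _ => ?_
  simp only [KGr.toddTrunc, map_sum]
  refine (Finset.sum_subset (Finset.range_mono (by omega)) fun k _ hk => ?_).symm
  rw [Finset.mem_range] at hk
  rw [Ideal.Quotient.eq_zero_iff_mem]
  simp only [map_mul, Polynomial.aeval_C, map_pow, Polynomial.aeval_X]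
  refine Ideal.mul_mem_left _ _ (Ideal.pow_le_pow_right (show d + 1 ≤ k by omega) (Ideal.pow_mem_pow ?_ k))
  exact Ideal.subset_span (Set.mem_range_self i)

theorem aeval_map {A B : Type*} [CommRing A] [CommRing B] [Algebra ℚ A] [Algebra ℚ B] {σ : Type*} (g : A →ₐ[ℚ] B)
    (v : σ → A) (p : MvPolynomial σ ℚ) : g (MvPolynomial.aeval v p) = MvPolynomial.aeval (fun i => g (v i)) p := by
  induction p using MvPolynomial.induction_on with
  | C a => rw [MvPolynomial.aeval_C, MvPolynomial.aeval_C]; exact g.commutes a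
  | add p q hp hq => rw [map_add, map_add, map_add, hp, hq]
  | mul_X p i hp => simp only [map_mul, MvPolynomial.aeval_X, hp]

/-- The substitution of elementary symmetric functions in two sets of variables. -/
theorem exists_embed (D : ℕ) :
    ∃ S : MvPolynomial (Fin D) (MvPolynomial (Fin D) ℚ) →ₐ[ℚ] MvPolynomial (Fin D) (MvPolynomial (Fin D) ℚ),
      Function.Injective S ∧
      (∀ i : Fin D, S (MvPolynomial.X i) =
        ((univ : Finset (Fin D)).val.map MvPolynomial.X).esymm (i.1 + 1)) ∧
      ∀ i : Fin D, S (MvPolynomial.C (MvPolynomial.X i)) =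
        ((univ : Finset (Fin D)).val.map fun k => MvPolynomial.C (MvPolynomial.X k)).esymm (i.1 + 1) := by
  let φ : MvPolynomial (Fin D) (MvPolynomial (Fin D) ℚ) →ₐ[ℚ] MvPolynomial (Fin D) (MvPolynomial (Fin D) ℚ) :=
    MvPolynomial.mapAlgHom (MvPolynomial.aeval fun i : Fin D => MvPolynomial.esymm (Fin D) ℚ (i.1 + 1))
  let θ : MvPolynomial (Fin D) (MvPolynomial (Fin D) ℚ) →ₐ[MvPolynomial (Fin D) ℚ]
      MvPolynomial (Fin D) (MvPolynomial (Fin D) ℚ) :=
    MvPolynomial.aeval fun i : Fin D => MvPolynomial.esymm (Fin D) (MvPolynomial (Fin D) ℚ) (i.1 + 1)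
  have hφ : Function.Injective φ := by
    have h := MvPolynomial.map_injective (σ := Fin D)
      (MvPolynomial.aeval (R := ℚ) fun i : Fin D => MvPolynomial.esymm (Fin D) ℚ (i.1 + 1)).toRingHom
      (Lambda.aeval_esymm_injective ℚ D)
    exact h
  have hθ : Function.Injective θ := Lambda.aeval_esymm_injective (MvPolynomial (Fin D) ℚ) D
  refine ⟨(θ.restrictScalars ℚ).comp φ, fun x y hxy => hφ (hθ hxy), fun i => ?_, fun i => ?_⟩
  · simp only [φ, θ, AlgHom.comp_apply, MvPolynomial.mapAlgHom_apply, AlgHom.restrictScalars_apply, MvPolynomial.map_X,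
      MvPolynomial.aeval_X, MvPolynomial.esymm_eq_multiset_esymm]
  · simp only [φ, θ, AlgHom.comp_apply, MvPolynomial.mapAlgHom_apply, AlgHom.restrictScalars_apply, MvPolynomial.map_C,
      MvPolynomial.aeval_C, MvPolynomial.algebraMap_eq, AlgHom.toRingHom_eq_coe, RingHom.coe_coe,
      MvPolynomial.aeval_X]
    rw [MvPolynomial.esymm_eq_multiset_esymm, Lambda.map_esymm', Multiset.map_map]
    rfl

theorem map_ext {A B : Type*} [CommRing A] [CommRing B] [Algebra ℚ A] [Algebra ℚ B] (g : A →ₐ[ℚ] B) {D : ℕ}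
    (v : Fin D → A) (n : ℕ) : g (Lambda.ext v n) = Lambda.ext (fun i => g (v i)) n := by
  simp only [Lambda.ext]
  split_ifs <;> simp

theorem ext_eq_esymm {A : Type*} [CommRing A] {D : ℕ} (v : Fin D → A) (m : Multiset A) (hm : m.card = D)
    (hv : ∀ i : Fin D, v i = m.esymm (i.1 + 1)) (n : ℕ) : Lambda.ext v n = m.esymm n := by
  rcases n with _ | n
  · rw [Lambda.ext_zero, Lambda.esymm_zero']
  · by_cases hn : n < D
    · rw [Lambda.ext_eq _ (Nat.succ_pos n) (by omega)]
      exact hv ⟨n, hn⟩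
    · rw [Lambda.esymm_eq_zero _ (by omega)]
      simp only [Lambda.ext]
      split_ifs <;> first | omega | contradiction | simp

theorem todd_conv_univ {A : Type u} [CommRing A] [Algebra ℚ A] (D : ℕ) (c c' : Fin D → A) :
    MvPolynomial.aeval (fun i : Fin (D + D) => conv (Lambda.ext c) (Lambda.ext c') (i.1 + 1)) (KGr.toddPoly (D + D)) =
      MvPolynomial.aeval (fun i : Fin (D + D) => Lambda.ext c (i.1 + 1)) (KGr.toddPoly (D + D)) *
        MvPolynomial.aeval (fun i : Fin (D + D) => Lambda.ext c' (i.1 + 1)) (KGr.toddPoly (D + D)) := by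
  obtain ⟨S, hS, hSX, hSC⟩ := exists_embed D
  suffices h : MvPolynomial.aeval (fun i : Fin (D + D) => conv
        (Lambda.ext (MvPolynomial.X : Fin D → MvPolynomial (Fin D) (MvPolynomial (Fin D) ℚ)))
        (Lambda.ext fun k => MvPolynomial.C (MvPolynomial.X k)) (i.1 + 1)) (KGr.toddPoly (D + D)) =
      MvPolynomial.aeval (fun i : Fin (D + D) => Lambda.ext
        (MvPolynomial.X : Fin D → MvPolynomial (Fin D) (MvPolynomial (Fin D) ℚ)) (i.1 + 1)) (KGr.toddPoly (D + D)) *
        MvPolynomial.aeval (fun i : Fin (D + D) => Lambda.ext (fun k : Fin D =>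
          (MvPolynomial.C (MvPolynomial.X k) : MvPolynomial (Fin D) (MvPolynomial (Fin D) ℚ))) (i.1 + 1))
          (KGr.toddPoly (D + D)) by
    have h' := congrArg (MvPolynomial.aevalTower (MvPolynomial.aeval (R := ℚ) c') c) h
    rw [map_mul, aeval_map, aeval_map, aeval_map] at h'
    simp only [conv, map_sum, map_mul, map_ext, MvPolynomial.aevalTower_X, MvPolynomial.aevalTower_C,
      MvPolynomial.aeval_X] at h'
    exact h'
  refine hS ?_
  rw [map_mul, aeval_map, aeval_map, aeval_map]
  simp only [conv, map_sum, map_mul, map_ext]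
  simp only [ext_eq_esymm _ _ (by simp) hSX, ext_eq_esymm _ _ (by simp) hSC]
  rw [show (fun i : Fin (D + D) => ∑ x ∈ range (i.1 + 1 + 1),
      ((univ : Finset (Fin D)).val.map (MvPolynomial.X : Fin D → MvPolynomial (Fin D) (MvPolynomial (Fin D) ℚ))).esymm x *
        ((univ : Finset (Fin D)).val.map fun k : Fin D =>
          (MvPolynomial.C (MvPolynomial.X k) : MvPolynomial (Fin D) (MvPolynomial (Fin D) ℚ))).esymm (i.1 + 1 - x)) =
      fun i : Fin (D + D) => (((univ : Finset (Fin D)).val.map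
        (MvPolynomial.X : Fin D → MvPolynomial (Fin D) (MvPolynomial (Fin D) ℚ))) +
        (univ : Finset (Fin D)).val.map fun k : Fin D =>
          (MvPolynomial.C (MvPolynomial.X k) : MvPolynomial (Fin D) (MvPolynomial (Fin D) ℚ))).esymm (i.1 + 1) from
    funext fun i => (esymm_add _ _ _).symm,
    todd_esymm _ (by simp), todd_esymm _ (by simp), todd_esymm _ (by simp), Multiset.map_add, Multiset.prod_add]

theorem tdK_add {d : ℕ} (hd : gammaFiltration P (d + 1) = ⊥) (x y : K) :
    KGr.tdK P d (x + y) = KGr.tdK P d x * KGr.tdK P d y := by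
  rw [← tdK_trunc hd (Nat.le_add_left d d), ← tdK_trunc hd (Nat.le_add_left d d), ← tdK_trunc hd (Nat.le_add_left d d)]
  have hc : ∀ (z : K) (n : ℕ), Lambda.ext (fun i : Fin d => KGr.chern P (i.1 + 1) z) n = KGr.chern P n z := by
    intro z n
    rcases n with _ | n
    · rw [Lambda.ext_zero, chern_zero]
    · by_cases hn : n < d
      · rw [Lambda.ext_eq _ (Nat.succ_pos n) (by omega)]; rfl
      · rw [chern_eq_zero hd z (by omega)]
        simp only [Lambda.ext]
        split_ifs <;> first | omega | rfl | contradiction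
  have h := todd_conv_univ d (fun i => KGr.chern P (i.1 + 1) x) (fun i => KGr.chern P (i.1 + 1) y)
  simp only [funext (hc x), funext (hc y)] at h
  simp only [KGr.tdK, chern_add]
  exact h

theorem tdK_mul_neg {d : ℕ} (hd : gammaFiltration P (d + 1) = ⊥) (x : K) :
    KGr.tdK P d x * KGr.tdK P d (-x) = 1 := by
  rw [← tdK_add hd, add_neg_cancel, ← Nat.cast_zero, tdK_natCast]

/-! ### Adams operations -/

theorem chC_adamsOp (hK : HasSplitting K P) {j : ℕ} (hj : 1 ≤ j) (k : ℕ) (x : K) :
    chC P k (adamsOp j x) = adamsOp j (chC P k x) := by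
  have key : ∀ e ∈ P.pos, chC P k (adamsOp j e) = adamsOp j (chC P k e) := by
    intro e he
    obtain ⟨L, f, hf, hL, s, hs1, hs2, -⟩ := Lambda.exists_split hK he
    refine hf.injective ?_
    rw [map_chC hf, Lambda.map_adamsOp hf.isLambdaHom, Lambda.map_adamsOp hf.isLambdaHom, map_chC hf, ← hs2,
      Lambda.adamsOp_sum_lines hs1 hj, chC_sum_lines hs1, chC_sum_lines (P := L.posStr) (fun w hw => by
        obtain ⟨v, hv, rfl⟩ := Multiset.mem_map.mp hw
        exact Lambda.line_pow (hs1 v hv) j)]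
    let ψ := Lambda.adamsHom j hj (Lambda.adamsOp_one_pos L.posStr hj) (Lambda.adamsOp_mul_pos hL hj)
    show _ = ψ _
    rw [map_multiset_sum, Multiset.map_map, Multiset.map_map]
    refine congrArg Multiset.sum (Multiset.map_congr rfl fun v hv => ?_)
    simp only [Function.comp_apply]
    rw [map_pow, map_sub, map_one]
    rw [show ψ v = v ^ j from Lambda.adamsOp_line (hs1 v hv) hj]
  let ψ : K →+ K := AddMonoidHom.mk' (adamsOp j) (Lambda.adamsOp_add hj)
  obtain ⟨e, f, he, hf, rfl⟩ := P.exists_sub x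
  show chH P k (ψ (e - f)) = ψ (chH P k (e - f))
  simp only [map_sub]
  exact congrArg₂ (· - ·) (key e he) (key f hf)

theorem chK_natCast_mul (d N : ℕ) (x : K) : KGr.chK P d ((N : K) * x) = (N : ℚ) • KGr.chK P d x := by
  rw [← nsmul_eq_mul, Nat.cast_smul_eq_nsmul]
  exact map_nsmul (AddMonoidHom.mk' (KGr.chK P d) (chK_add d)) N x

theorem gr_ext (hK : HasSplitting K P) {d : ℕ} (hd : gammaFiltration P (d + 1) = ⊥) {M : Type*} [AddCommGroup M]
    [Module ℚ M] {f g : KGr.Gr P →ₗ[ℚ] M}
    (h : ∀ (n : ℕ) (a : K), a ∈ gammaFiltration P n → f (KGr.grK P (n : ℤ) a) = g (KGr.grK P (n : ℤ) a)) : f = g := by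
  refine LinearMap.ext fun z => ?_
  obtain ⟨w, rfl⟩ := (chLin_bijective hK hd).2 z
  refine LinearMap.congr_fun (Lambda.ext_one_tmul (f := f.comp (chLin P d)) (g := g.comp (chLin P d)) fun x => ?_) w
  rw [LinearMap.comp_apply, LinearMap.comp_apply, chLin_tmul, chK_eq, map_sum, map_sum]
  exact Finset.sum_congr rfl fun k _ => by rw [map_smul, map_smul, h k _ (chC_mem k x)]

/-- The degree scaling by `j`. -/
theorem exists_tau (hK : HasSplitting K P) {d : ℕ} (hd : gammaFiltration P (d + 1) = ⊥) {j : ℕ} (hj : 1 ≤ j) :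
    ∃ τ : KGr.Gr P →ₐ[ℚ] KGr.Gr P,
      (∀ (n : ℕ) (a : K), a ∈ gammaFiltration P n → τ (KGr.grK P (n : ℤ) a) = (j : ℚ) ^ n • KGr.grK P (n : ℤ) a) ∧
      ∀ x, τ (KGr.chK P d x) = KGr.chK P d (adamsOp j x) := by
  let E := LinearEquiv.ofBijective _ (chLin_bijective hK hd)
  let ψ : K →+ K := AddMonoidHom.mk' (adamsOp j) (Lambda.adamsOp_add hj)
  let L : KGr.Gr P →ₗ[ℚ] KGr.Gr P :=
    (E.toLinearMap.comp (ψ.toIntLinearMap.baseChange ℚ)).comp E.symm.toLinearMap
  have hL : ∀ x, L (KGr.chK P d x) = KGr.chK P d (adamsOp j x) := fun x => by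
    show E ((ψ.toIntLinearMap.baseChange ℚ) (E.symm (KGr.chK P d x))) = _
    rw [show E.symm (KGr.chK P d x) = (1 : ℚ) ⊗ₜ[ℤ] x from
      E.symm_apply_eq.2 (chLin_tmul d x).symm, LinearMap.baseChange_tmul]
    exact chLin_tmul d _
  have hgr : ∀ i n : ℕ, d + 1 - n = i → ∀ a ∈ gammaFiltration P n,
      L (KGr.grK P (n : ℤ) a) = (j : ℚ) ^ n • KGr.grK P (n : ℤ) a := by
    intro i
    induction i using Nat.strong_induction_on with
    | _ i ih =>
      intro n hi a ha
      rcases lt_or_ge d n with h | h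
      · rw [grK_eq_zero_of_gt hd h ha, map_zero, smul_zero]
      have hg := good_of_mem hK ha
      have hlow : ∀ k : ℕ, k < n → KGr.grK P (k : ℤ) (chC P k a) = 0 := fun k hk => grK_succ (hg.mem_succ hk)
      have hψ : ∀ k : ℕ, KGr.grK P (k : ℤ) (chC P k (adamsOp j a)) = (j : ℚ) ^ k • KGr.grK P (k : ℤ) (chC P k a) :=
        fun k => by
          rw [chC_adamsOp hK hj, grK_congr (y := ((j ^ k : ℕ) : K) * chC P k a)
            (Lambda.gammaFiltration_mul_mem _ (chC_mem k a))
            (by push_cast; exact Lambda.adamsOp_sub_mem hK hj (chC_mem k a)),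
            grK_natCast_mul _ (chC_mem k a), Nat.cast_pow]
      have hn : KGr.grK P (n : ℤ) (chC P n a) = (n.factorial : ℚ) • KGr.grK P (n : ℤ) a := by
        have h := hg.2 n le_rfl
        rw [if_pos rfl] at h
        rw [grK_congr (Lambda.gammaFiltration_mul_mem _ ha) h, grK_natCast_mul _ ha]
      have h1 := hL a
      rw [chK_eq, chK_eq, map_sum, ← sub_eq_zero, ← Finset.sum_sub_distrib, Finset.sum_eq_single n] at h1
      · rw [map_smul, hψ, hn, map_smul, ← smul_sub, smul_comm _ ((n.factorial : ℚ)), ← smul_sub, smul_smul,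
          smul_eq_zero, sub_eq_zero] at h1
        refine h1.resolve_left ?_
        positivity
      · intro k hk hkn
        rw [Finset.mem_range] at hk
        rw [map_smul, hψ]
        rcases lt_or_gt_of_ne hkn with h' | h'
        · rw [hlow k h']; simp
        · rw [ih (d + 1 - k) (by omega) k rfl _ (chC_mem k a), sub_self]
      · intro hn'
        exact absurd (Finset.mem_range.2 (by omega)) hn'
  have hgr' := fun n a ha => hgr _ n rfl a ha
  have hone : L 1 = 1 := by
    rw [← grK_zero_one (P := P), hgr' 0 1 (Lambda.gammaFiltration_zero _), pow_zero, one_smul]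
  have hmul : ∀ z w, L (z * w) = L z * L w := by
    have h : (LinearMap.mul ℚ (KGr.Gr P)).compr₂ L = (LinearMap.mul ℚ (KGr.Gr P)).compl₁₂ L L := by
      refine gr_ext hK hd fun n a ha => gr_ext hK hd fun m b hb => ?_
      simp only [LinearMap.compr₂_apply, LinearMap.compl₁₂_apply, LinearMap.mul_apply']
      rw [grK_mul ha hb, hgr' n a ha, hgr' m b hb, hgr' _ _ (Lambda.gammaFiltration_mul ha hb), ← grK_mul ha hb,
        smul_mul_smul_comm, pow_add]
    exact fun z w => LinearMap.congr_fun (LinearMap.congr_fun h z) w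
  exact ⟨AlgHom.ofLinearMap L hone hmul, hgr', hL⟩

theorem tau_lc {j : ℕ} {τ : KGr.Gr P →ₐ[ℚ] KGr.Gr P}
    (hτ : ∀ (n : ℕ) (a : K), a ∈ gammaFiltration P n → τ (KGr.grK P (n : ℤ) a) = (j : ℚ) ^ n • KGr.grK P (n : ℤ) a)
    {w : K} (hw : P.IsLine w) : τ (lc P w) = (j : ℚ) • lc P w := by
  rw [lc, hτ 1 _ (sub_one_mem hw), pow_one]

end Groth.Agent.GRR
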