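import Groth.Agent.KRRLam.Gr
import Groth.Agent.KSplit.Gamma

/-!
Functoriality of the rational graded ring of the γ-filtration.
-/

set_option autoImplicit false
set_option linter.style.haveILetI false
set_option linter.unusedSectionVars false
set_option backward.isDefEq.respectTransparency false
set_option backward.isDefEq.respectTransparency.types false

universe v w x

open LambdaRing LaurentPolynomial TensorProduct
open Groth.Agent.KRRLam (mem_rees coeff_rees grK_eq toGr)

noncomputable section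

namespace Groth.Agent.GRR

variable {K : Type v} [CommRing K] [LambdaOps K] {P : PosStructure K}
  {L : Type v} [CommRing L] [LambdaOps L] {Q : PosStructure L}

/-- A morphism of λ-rings with augmentation. -/
structure IsHom (P : PosStructure K) {L : Type w} [CommRing L] [LambdaOps L] (Q : PosStructure L) (f : K →+* L) : Prop where
  lam : ∀ i x, f (LambdaOps.lam i x) = LambdaOps.lam i (f x)
  aug : ∀ x, Q.aug (f x) = P.aug x

section

variable {L' : Type w} [CommRing L'] [LambdaOps L'] {Q' : PosStructure L'} {f : K →+* L'}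

theorem IsHom.map_mem (hf : IsHom P Q' f) {n : ℕ} {x : K} (hx : x ∈ gammaFiltration P n) :
    f x ∈ gammaFiltration Q' n := by
  rcases eq_or_ne n 0 with rfl | hn
  · exact Lambda.gammaFiltration_zero _
  refine Lambda.gammaFiltration_induction (motive := fun z => f z ∈ gammaFiltration Q' n) hn hx
    (fun l h1 h2 => ?_) (by simp) (fun a b ha hb => by rw [map_add]; exact add_mem ha hb)
    fun a ha => by rw [map_neg]; exact neg_mem ha
  have := Lambda.prod_gamma_mem (P := Q') (n := n) (l.map fun p => (p.1, f p.2)) (fun p hp => by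
    obtain ⟨q, hq, rfl⟩ := List.mem_map.mp hp
    rw [hf.aug, h1 q hq]) (by simpa [List.map_map, Function.comp_def] using h2)
  simpa [map_list_prod, List.map_map, Function.comp_def, KSplit.map_gamma' f hf.lam] using this

/-- The map of Laurent polynomials. -/
abbrev lmap (f : K →+* L') : LaurentPolynomial K →+* LaurentPolynomial L' := AddMonoidAlgebra.mapRingHom ℤ f

theorem lmap_C_mul_T (f : K →+* L') (x : K) (m : ℤ) :
    lmap f (LaurentPolynomial.C x * T m) = LaurentPolynomial.C (f x) * T m := by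
  rw [← single_eq_C_mul_T, ← single_eq_C_mul_T]
  exact AddMonoidAlgebra.mapRingHom_single f m x

theorem lmap_T (f : K →+* L') (m : ℤ) : lmap f (T m) = T m := by
  have h := lmap_C_mul_T f 1 m
  rwa [map_one, map_one, map_one, one_mul, one_mul] at h

theorem lmap_mem (hf : IsHom P Q' f) {p : LaurentPolynomial K} (hp : p ∈ KGr.rees P) : lmap f p ∈ KGr.rees Q' := by
  induction hp using Subring.closure_induction with
  | mem p hp =>
    rcases hp with rfl | ⟨n, x, hx, rfl⟩
    · rw [lmap_T]; exact (KGr.tGen Q').2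
    · rw [lmap_C_mul_T]; exact mem_rees' (hf.map_mem hx)
  | zero => rw [map_zero]; exact zero_mem _
  | one => rw [map_one]; exact one_mem _
  | add p q _ _ hp hq => rw [map_add]; exact add_mem hp hq
  | neg p _ hp => rw [map_neg]; exact neg_mem hp
  | mul p q _ _ hp hq => rw [map_mul]; exact mul_mem hp hq
where
  mem_rees' {n : ℕ} {y : L'} (hy : y ∈ gammaFiltration Q' n) :
      (LaurentPolynomial.C y * T (-(n : ℤ)) : LaurentPolynomial L') ∈ KGr.rees Q' :=
    Subring.subset_closure (Set.mem_insert_of_mem _ ⟨n, y, hy, rfl⟩)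

/-- The map of Rees rings. -/
def reesMap (hf : IsHom P Q' f) : KGr.rees P →+* KGr.rees Q' :=
  ((lmap f).comp (KGr.rees P).subtype).codRestrict _ fun p => lmap_mem hf p.2

/-- The map of graded rings. -/
def grMap (hf : IsHom P Q' f) : KGr.GrZ P →+* KGr.GrZ Q' :=
  Ideal.Quotient.lift _ ((Ideal.Quotient.mk _).comp (reesMap hf)) fun p hp => by
    rw [Ideal.mem_span_singleton] at hp
    obtain ⟨q, rfl⟩ := hp
    rw [RingHom.comp_apply, map_mul, Ideal.Quotient.eq_zero_iff_mem, Ideal.mem_span_singleton]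
    exact ⟨reesMap hf q, by rw [show reesMap hf (KGr.tGen P) = KGr.tGen Q' from Subtype.ext (lmap_T f 1)]⟩

/-- The map of graded rings, over the integers. -/
def grAlg (hf : IsHom P Q' f) : KGr.GrZ P →ₐ[ℤ] KGr.GrZ Q' :=
  { toRingHom := grMap hf
    commutes' := fun n => by
      show grMap hf (algebraMap ℤ (KGr.GrZ P) n) = algebraMap ℤ (KGr.GrZ Q') n
      rw [eq_intCast (algebraMap ℤ (KGr.GrZ P)) n, eq_intCast (algebraMap ℤ (KGr.GrZ Q')) n, map_intCast] }

/-- The map of rational graded rings. -/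
def mapGr (hf : IsHom P Q' f) : KGr.Gr P →ₐ[ℚ] KGr.Gr Q' :=
  Algebra.TensorProduct.map (AlgHom.id ℚ ℚ) (grAlg hf)

theorem mapGr_grK (hf : IsHom P Q' f) {n : ℤ} {x : K} {N : ℕ} (hN : 1 ≤ N)
    (h : LaurentPolynomial.C ((N : K) * x) * T (-n) ∈ KGr.rees P) :
    mapGr hf (KGr.grK P n x) = KGr.grK Q' n (f x) := by
  have h1 : ∃ M : ℕ, 1 ≤ M ∧ LaurentPolynomial.C ((M : K) * x) * T (-n) ∈ KGr.rees P := ⟨N, hN, h⟩
  have hmap : ∀ M : ℕ, lmap f (LaurentPolynomial.C ((M : K) * x) * T (-n)) =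
      LaurentPolynomial.C ((M : L') * f x) * T (-n) := fun M => by
    rw [lmap_C_mul_T, map_mul f, map_natCast]
  have h2 : ∃ M : ℕ, 1 ≤ M ∧ LaurentPolynomial.C ((M : L') * f x) * T (-n) ∈ KGr.rees Q' :=
    ⟨N, hN, hmap N ▸ lmap_mem hf h⟩
  rw [KGr.grK, dif_pos h1, KGr.grK, dif_pos h2, mapGr, Algebra.TensorProduct.map_tmul]
  set M₁ := h1.choose with hM₁
  set M₂ := h2.choose with hM₂
  let A : KGr.rees Q' := ⟨_, hmap M₁ ▸ lmap_mem hf h1.choose_spec.2⟩
  let B : KGr.rees Q' := ⟨_, h2.choose_spec.2⟩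
  have hAB : M₂ • A = M₁ • B := by
    refine Subtype.ext ?_
    show M₂ • (LaurentPolynomial.C ((M₁ : L') * f x) * T (-n)) = M₁ • (LaurentPolynomial.C ((M₂ : L') * f x) * T (-n))
    simp only [nsmul_eq_mul, map_mul, map_natCast]
    ring
  have e1 : grAlg hf (Ideal.Quotient.mk _ (⟨_, h1.choose_spec.2⟩ : KGr.rees P)) =
      Ideal.Quotient.mk (Ideal.span {KGr.tGen Q'}) A := by
    show grMap hf _ = _
    rw [grMap, Ideal.Quotient.lift_mk]
    exact congrArg (Ideal.Quotient.mk _) (Subtype.ext (hmap M₁))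
  have hq : M₂ • Ideal.Quotient.mk (Ideal.span {KGr.tGen Q'}) A = M₁ • Ideal.Quotient.mk _ B := by
    rw [← map_nsmul, ← map_nsmul, hAB]
  have h₁ : (M₁ : ℚ) ≠ 0 := by exact_mod_cast Nat.one_le_iff_ne_zero.mp h1.choose_spec.1
  have h₂ : (M₂ : ℚ) ≠ 0 := by exact_mod_cast Nat.one_le_iff_ne_zero.mp h2.choose_spec.1
  rw [AlgHom.id_apply, e1]
  calc ((1 : ℚ) / (M₁ : ℚ)) ⊗ₜ[ℤ] Ideal.Quotient.mk _ A
      = ((1 : ℚ) / ((M₁ : ℚ) * M₂)) ⊗ₜ[ℤ] (M₂ • Ideal.Quotient.mk (Ideal.span {KGr.tGen Q'}) A) := by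
        rw [tmul_smul, smul_tmul', nsmul_eq_mul]; congr 1; field_simp
    _ = ((1 : ℚ) / ((M₁ : ℚ) * M₂)) ⊗ₜ[ℤ] (M₁ • Ideal.Quotient.mk (Ideal.span {KGr.tGen Q'}) B) := by rw [hq]
    _ = ((1 : ℚ) / (M₂ : ℚ)) ⊗ₜ[ℤ] Ideal.Quotient.mk _ B := by
        rw [tmul_smul, smul_tmul', nsmul_eq_mul]; congr 1; field_simp

theorem mapGr_grK_mem (hf : IsHom P Q' f) {n : ℕ} {x : K} (hx : x ∈ gammaFiltration P n) :
    mapGr hf (KGr.grK P (n : ℤ) x) = KGr.grK Q' (n : ℤ) (f x) := by
  refine mapGr_grK hf le_rfl ?_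
  rw [Nat.cast_one, one_mul]
  exact Subring.subset_closure (Set.mem_insert_of_mem _ ⟨n, x, hx, rfl⟩)

theorem mapGr_chern (hf : IsHom P Q' f) (i : ℕ) (x : K) : mapGr hf (KGr.chern P i x) = KGr.chern Q' i (f x) := by
  rw [KGr.chern, mapGr_grK_mem hf (by
    simpa using Lambda.prod_gamma_mem (P := P) (n := i) [(i, x - (P.aug x : K))] (by simp) (by simp)),
    KSplit.map_gamma' f hf.lam, map_sub, map_intCast, KGr.chern, hf.aug]

theorem mapGr_aeval (hf : IsHom P Q' f) {σ : Type*} (g : σ → KGr.Gr P) (p : MvPolynomial σ ℚ) :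
    mapGr hf (MvPolynomial.aeval g p) = MvPolynomial.aeval (fun i => mapGr hf (g i)) p := by
  induction p using MvPolynomial.induction_on with
  | C a => rw [MvPolynomial.aeval_C, MvPolynomial.aeval_C]; exact (mapGr hf).commutes a
  | add p q hp hq => rw [map_add, map_add, map_add, hp, hq]
  | mul_X p i hp => simp only [map_mul, MvPolynomial.aeval_X, hp]

theorem mapGr_chK (hf : IsHom P Q' f) (d : ℕ) (x : K) : mapGr hf (KGr.chK P d x) = KGr.chK Q' d (f x) := by
  rw [KGr.chK, map_add, AlgHom.commutes, mapGr_aeval, KGr.chK, hf.aug]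
  simp only [mapGr_chern]

theorem mapGr_tdK (hf : IsHom P Q' f) (d : ℕ) (x : K) : mapGr hf (KGr.tdK P d x) = KGr.tdK Q' d (f x) := by
  rw [KGr.tdK, mapGr_aeval, KGr.tdK]
  simp only [mapGr_chern]

end

end Groth.Agent.GRR
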