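import Groth.Agent.GRR.GrMap
import Groth.Agent.GRR.Bott
import Groth.Agent.NormDef.Core
import Groth.Agent.K0ResLF.Tangent
import Groth.Agent.GammaDim.Tower
import Groth.Agent.KSplit.Model
import Groth.Agent.S3744

/-!
The Chern character of Bott's class of a bundle.
-/

set_option autoImplicit false
set_option linter.style.haveILetI false
set_option linter.unusedSectionVars false
set_option backward.isDefEq.respectTransparency false
set_option backward.isDefEq.respectTransparency.types false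
set_option maxHeartbeats 1000000
set_option synthInstance.maxHeartbeats 200000

universe v u

open CategoryTheory CategoryTheory.Limits AlgebraicGeometry LambdaRing TensorProduct
open Groth.Agent.SGA6Ext (cls pullK kvbRing kvbLam kvbPos)
open Groth.Agent.CycPB (dualM)

attribute [local instance] HasDerivedCategory.standard

noncomputable section

namespace Groth.Agent.GRR

attribute [local instance] kvbRing kvbLam

open Groth.Agent.KRRLam (chLin chLin_tmul chLin_bijective)

variable {X Y : Scheme.{u}}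

theorem isLine_cls [ConnectedSpace ↥X] {L : X.Modules} (hL : FlatMod.IsFinLocFreeOfRank 1 L) :
    (kvbPos X).IsLine (cls L) :=
  ⟨((KSplit.isModel_kvb X).mem_pos_iff _).2 ⟨1, L, le_rfl, hL, rfl⟩,
    ((KSplit.isModel_kvb X).aug_cl 1 L hL).trans Nat.cast_one⟩

theorem isHom_pull [ConnectedSpace ↥X] [ConnectedSpace ↥Y] (f : X ⟶ Y) :
    IsHom (kvbPos Y) (kvbPos X) (KSplit.pullRing f) where
  lam i x := KSplit.pullK_lamK f i x
  aug x := by
    refine DFunLike.congr_fun (SGA6Ext.hom_ext_cls (f := (kvbPos X).aug.toAddMonoidHom.comp (pullK f))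
      (g := (kvbPos Y).aug.toAddMonoidHom) fun M hM => ?_) x
    show (kvbPos X).aug (pullK f (cls M)) = (kvbPos Y).aug (cls M)
    rw [SGA6Ext.pullK_cls f hM]
    exact ((KSplit.isModel_kvb X).aug_cl _ _ (Nagata.isFinLocFreeOfRank_pullback f (SGA6Ext.isRank hM))).trans
      ((KSplit.isModel_kvb Y).aug_cl _ _ (SGA6Ext.isRank hM)).symm

theorem fil_eq_bot {T : Scheme.{u}} {d : ℕ} (hT : GammaDim.Good T d) {hC : ConnectedSpace ↥T} :
    gammaFiltration (kvbPos T) (d + 1) = ⊥ := by
  rw [AddSubgroup.eq_bot_iff_forall]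
  intro x hx
  exact GammaDim.gFil_eq_zero hT ((KSplit.mem_model_iff (KSplit.isModel_kvb T) (d + 1) x).1 hx)

variable (X) in
/-- The duality of classes of bundles. -/
def dualK [ConnectedSpace ↥X] : SGA6.Kvb X →+ SGA6.Kvb X :=
  SGA6Ext.liftK (fun E => cls (dualM E.1)) fun S h₁ h₂ h₃ hS =>
    K0ResLF.dual_add' (φ := AddMonoidHom.id (SGA6.Kvb X)) (f := S.f) (g := S.g) (w := S.zero) hS h₁ h₂ h₃

theorem dualK_cls [ConnectedSpace ↥X] {E : X.Modules} (hE : FlatMod.IsFinLocFree E) : dualK X (cls E) = cls (dualM E) :=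
  SGA6Ext.liftK_cls _ _ E hE

theorem cls_mul_dual [ConnectedSpace ↥X] {L : X.Modules} (hL : FlatMod.IsFinLocFreeOfRank 1 L) :
    cls L * cls (dualM L) = 1 := by
  have hi := ZeroSch.isInvertible_of_rankOne hL
  have h := K0ResLF.line_mul_dual (KSplit.isModel_kvb X) (𝟙 X) hi
  have e : (Scheme.Modules.pullback (𝟙 X)).obj L ≅ L := (Scheme.Modules.pullbackId X).app L
  rw [show AddMonoidHom.id (SGA6.Kvb X) (KRR.cl X ((Scheme.Modules.pullback (𝟙 X)).obj L)) = cls L from
      SGA6Ext.cls_iso e (DerPerf.isFinLocFree_pullback _ (SGA6Ext.finLocFree_of_rank hL)),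
    show AddMonoidHom.id (SGA6.Kvb X) (KRR.cl X (dualM ((Scheme.Modules.pullback (𝟙 X)).obj L))) = cls (dualM L) from
      SGA6Ext.cls_iso (K0ResLF.dualMCongr e) (K0ResLF.isFinLocFree_dualM
        (DerPerf.isFinLocFree_pullback _ (SGA6Ext.finLocFree_of_rank hL)))] at h
  exact h

theorem isLine_dual [ConnectedSpace ↥X] {L : X.Modules} (hL : FlatMod.IsFinLocFreeOfRank 1 L) :
    (kvbPos X).IsLine (cls (dualM L)) := by
  have h1 := isLine_cls hL
  refine isLine_cls (fun x => ?_)
  have hf := K0ResLF.isFinLocFree_dualM (SGA6Ext.finLocFree_of_rank hL)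
  have hr := SGA6Ext.isRank (X := X) hf
  have h := congrArg (kvbPos X).aug (cls_mul_dual hL)
  rw [map_mul, map_one, h1.2, one_mul] at h
  have h' : ((SGA6Ext.rank (dualM L) : ℕ) : ℤ) = 1 := ((KSplit.isModel_kvb X).aug_cl _ _ hr).symm.trans h
  rw [Nat.cast_eq_one] at h'
  exact (h' ▸ hr) x

theorem chLin_natural {T T' : Scheme.{u}} [ConnectedSpace ↥T] [ConnectedSpace ↥T'] (f : T' ⟶ T) (d : ℕ)
    (z : ℚ ⊗[ℤ] SGA6.Kvb T) :
    mapGr (isHom_pull f) (chLin (kvbPos T) d z) =
      chLin (kvbPos T') d (LinearMap.baseChange ℚ (KSplit.pullRing f).toAddMonoidHom.toIntLinearMap z) := by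
  induction z using TensorProduct.induction_on with
  | zero => simp
  | add a b ha hb => simp only [map_add, ha, hb]
  | tmul q x =>
    rw [show q ⊗ₜ[ℤ] x = q • ((1 : ℚ) ⊗ₜ[ℤ] x) by rw [smul_tmul', smul_eq_mul, mul_one], map_smul, map_smul, map_smul,
      map_smul, chLin_tmul, LinearMap.baseChange_tmul, chLin_tmul, mapGr_chK]
    rfl

/-- The Chern character of Bott's class of a bundle, against the Todd class of the dual. -/
theorem chK_bott_dual {T : Scheme.{u}} [IsNoetherian T] [ConnectedSpace ↥T] {d : ℕ} (hT : GammaDim.Good T d)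
    {c : ℕ} {C : T.Modules} (hC : FlatMod.IsFinLocFreeOfRank c C) {j : ℕ} (hj : 1 ≤ j)
    (τ : KGr.Gr (kvbPos T) →ₐ[ℚ] KGr.Gr (kvbPos T))
    (hτ : ∀ (n : ℕ) (a : SGA6.Kvb T), a ∈ gammaFiltration (kvbPos T) n →
      τ (KGr.grK (kvbPos T) (n : ℤ) a) = (j : ℚ) ^ n • KGr.grK (kvbPos T) (n : ℤ) a) :
    KGr.chK (kvbPos T) d (NormDef.bottN c j (cls C)) * τ (KGr.tdK (kvbPos T) d (cls (dualM C))) =
      (j : ℚ) ^ c • KGr.tdK (kvbPos T) d (cls (dualM C)) := by
  obtain ⟨T', f, e, hdet, s, hs, hsum⟩ := GammaDim.exists_split_one c T d hT C hC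
  obtain ⟨hT', w, -, hinj⟩ := hdet
  haveI := hT'.1
  haveI := hT'.2.1
  have hCf := SGA6Ext.finLocFree_of_rank hC
  have hd : gammaFiltration (kvbPos T) (d + 1) = ⊥ := fil_eq_bot hT
  have hd' : gammaFiltration (kvbPos T') (d + e + 1) = ⊥ := fil_eq_bot hT'
  have hde : gammaFiltration (kvbPos T) (d + e + 1) = ⊥ := by
    rw [eq_bot_iff]; exact fun x hx => hd ▸ Lambda.gammaFiltration_anti (by omega) hx
  have hK := KSplit.hasSplitting _ _ _ (KSplit.isModel_kvb T)
  have hK' := KSplit.hasSplitting _ _ _ (KSplit.isModel_kvb T')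
  have hpinj : Function.Injective (KSplit.pullRing f).toAddMonoidHom.toIntLinearMap :=
    (injective_iff_map_eq_zero (KSplit.pullRing f)).2 fun x hx => hinj x (by
      rw [show pullK f x = 0 from hx, mul_zero])
  let g := mapGr (isHom_pull f)
  have hg : Function.Injective g := by
    rw [injective_iff_map_eq_zero]
    intro z hz
    obtain ⟨y, rfl⟩ := (chLin_bijective hK hde).2 z
    rw [show g _ = _ from chLin_natural f (d + e) y] at hz
    have h1 := (chLin_bijective hK' hd').1 (hz.trans (map_zero _).symm)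
    rw [show y = 0 from (Module.Flat.lTensor_preserves_injective_linearMap (M := ℚ) _ hpinj)
      (h1.trans (map_zero _).symm), map_zero]
  have htrunc : ∀ x : SGA6.Kvb T, KGr.chK (kvbPos T) d x = KGr.chK (kvbPos T) (d + e) x := fun x => by
    rw [KRRLam.chK_eq, KRRLam.chK_eq]
    refine Finset.sum_subset (Finset.range_mono (by omega)) fun k _ hk => ?_
    rw [Finset.mem_range] at hk
    rw [grK_eq_zero_of_gt hd (by omega) (KRRLam.chC_mem k x), smul_zero]
  rw [htrunc, ← tdK_trunc hd (show d ≤ d + e by omega)]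
  refine hg ?_
  obtain ⟨τ', hτ', -⟩ := exists_tau hK' hd' hj
  have hcomm : g.toLinearMap.comp τ.toLinearMap = τ'.toLinearMap.comp g.toLinearMap := gr_ext hK hde fun n a ha => by
    simp only [LinearMap.comp_apply, AlgHom.toLinearMap_apply, g]
    rw [hτ n a ha, map_smul, mapGr_grK_mem (isHom_pull f) ha, hτ' n _ ((isHom_pull f).map_mem ha)]
  have hcomm' : ∀ z, g (τ z) = τ' (g z) := fun z => LinearMap.congr_fun hcomm z
  rw [map_mul, map_smul, hcomm']
  -- the lines and their duals
  let pr : SGA6.Kvb T' → SGA6.Kvb T' × SGA6.Kvb T' := fun y => (y, dualK T' y)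
  have hline : ∀ p ∈ s.map pr, (kvbPos T').IsLine p.1 ∧ (kvbPos T').IsLine p.2 ∧ p.2 * p.1 = 1 := fun p hp => by
    obtain ⟨y, hy, rfl⟩ := Multiset.mem_map.1 hp
    obtain ⟨L, hL, rfl⟩ := hs y hy
    simp only [pr, dualK_cls (SGA6Ext.finLocFree_of_rank hL)]
    exact ⟨isLine_cls hL, isLine_dual hL, by rw [mul_comm]; exact cls_mul_dual hL⟩
  have hfst : (s.map pr).map Prod.fst = s := by simp [Multiset.map_map, pr, Function.comp_def]
  have hdual : KSplit.pullRing f (cls (dualM C)) = ((s.map pr).map Prod.snd).sum := by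
    obtain ⟨ε⟩ := CycPB.nonempty_pullback_dualM f hCf
    have hf' := DerPerf.isFinLocFree_pullback f hCf
    calc KSplit.pullRing f (cls (dualM C)) = cls (dualM ((Scheme.Modules.pullback f).obj C)) :=
          (SGA6Ext.pullK_cls f (K0ResLF.isFinLocFree_dualM hCf)).trans
            (SGA6Ext.cls_iso ε (DerPerf.isFinLocFree_pullback f (K0ResLF.isFinLocFree_dualM hCf)))
      _ = dualK T' s.sum := by rw [← hsum, SGA6Ext.pullK_cls f hCf, dualK_cls hf']
      _ = _ := by rw [map_multiset_sum, Multiset.map_map]; rfl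
  have hcard : s.card = c := by
    have h := congrArg (kvbPos T').aug hsum
    rw [show (kvbPos T').aug (pullK f (cls C)) = (kvbPos T).aug (cls C) from (isHom_pull f).aug _,
      show (kvbPos T).aug (cls C) = (c : ℤ) from (KSplit.isModel_kvb T).aug_cl c C hC, map_multiset_sum,
      Multiset.map_congr rfl (g := fun _ => (1 : ℤ)) fun y hy => by
        obtain ⟨L, hL, rfl⟩ := hs y hy; exact (isLine_cls hL).2] at h
    simp at h
    omega
  have hbott : KSplit.pullRing f (NormDef.bottN c j (cls C)) =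
      ((s.map pr).map fun p => ∑ a ∈ Finset.range j, p.1 ^ a).prod := by
    rw [NormDef.bottN, Lambda.map_aeval_int, show (s.map pr).map (fun p => ∑ a ∈ Finset.range j, p.1 ^ a) =
      s.map fun y => ∑ a ∈ Finset.range j, y ^ a by simp [Multiset.map_map, pr, Function.comp_def],
      ← bottN_sum_lines s (fun y hy => by obtain ⟨L, hL, rfl⟩ := hs y hy; exact isLine_cls hL) j]
    subst hcard
    refine congrArg (fun v => MvPolynomial.aeval v (KRR.bottPoly j s.card)) (funext fun i => ?_)
    rw [← hsum]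
    exact (isHom_pull f).lam _ _
  show mapGr (isHom_pull f) _ * τ' (mapGr (isHom_pull f) _) = _ • mapGr (isHom_pull f) _
  rw [mapGr_chK, mapGr_tdK, hbott, hdual]
  simpa [hcard] using chK_bott_lines hK' hd' hτ' (s.map pr) hline

end Groth.Agent.GRR
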