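import Groth.Agent.GRR.CodimGeom
import Groth.Agent.GRR.GrMap
import Groth.Agent.GRR.Kvb
import Groth.Agent.NormDef.FilModels
import Groth.Agent.K0Filt.Localization
import Groth.Agent.RelPCS.Push
import Groth.Agent.CurveRR.Easy
import Groth.Agent.S2821
import Groth.Agent.ClSubLib.AnnIdeal
import Groth.Prelude.Def_ChowK

/-!
The class of a closed subvariety lies in the rational filtration of its codimension.
-/

set_option autoImplicit false
set_option linter.style.haveILetI false
set_option linter.unusedSectionVars false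
set_option backward.isDefEq.respectTransparency false
set_option backward.isDefEq.respectTransparency.types false
set_option maxHeartbeats 1000000
set_option synthInstance.maxHeartbeats 200000

universe v u

open CategoryTheory CategoryTheory.Limits AlgebraicGeometry LambdaRing TopologicalSpace
open Groth.Agent.SGA6Ext (cls pullK kvbRing kvbLam kvbPos)

attribute [local instance] HasDerivedCategory.standard

noncomputable section

namespace Groth.Agent.GRR

/-- Lifting along a surjection respects the filtration. -/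
theorem IsHom.exists_lift {K L : Type v} [CommRing K] [LambdaOps K] [CommRing L] [LambdaOps L]
    {P : PosStructure K} {Q : PosStructure L} {f : K →+* L} (hf : IsHom P Q f) (hs : Function.Surjective f)
    {n : ℕ} {y : L} (hy : y ∈ gammaFiltration Q n) : ∃ x ∈ gammaFiltration P n, f x = y := by
  rcases eq_or_ne n 0 with rfl | hn
  · obtain ⟨x, rfl⟩ := hs y
    exact ⟨x, Lambda.gammaFiltration_zero _, rfl⟩
  refine Lambda.gammaFiltration_induction (motive := fun z => ∃ x ∈ gammaFiltration P n, f x = z) hn hy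
    (fun l h1 h2 => ?_) ⟨0, zero_mem _, map_zero f⟩
    (fun a b ⟨a', ha, ea⟩ ⟨b', hb, eb⟩ => ⟨a' + b', add_mem ha hb, by rw [map_add, ea, eb]⟩)
    fun a ⟨a', ha, ea⟩ => ⟨-a', neg_mem ha, by rw [map_neg, ea]⟩
  let g := Function.surjInv hs
  refine ⟨_, Lambda.prod_gamma_mem (P := P) (n := n) (l.map fun p => (p.1, g p.2)) (fun p hp => ?_)
    (by simpa [List.map_map, Function.comp_def] using h2), ?_⟩
  · obtain ⟨q, hq, rfl⟩ := List.mem_map.mp hp
    rw [← hf.aug, Function.surjInv_eq hs]
    exact h1 q hq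
  · simp [map_list_prod, List.map_map, Function.comp_def, KSplit.map_gamma' f hf.lam, g, Function.surjInv_eq hs]

attribute [local instance] kvbRing kvbLam

variable {X Y : Scheme.{u}}

/-- From classes of bundles to classes of coherent modules. -/
abbrev toC (X : Scheme.{u}) (hX : ∀ M : X.Modules, FlatMod.IsFinLocFree M → Coh.IsCoh M) :
    SGA6.Kvb X →+ KZero.K0sub (fun M : X.Modules => Coh.IsCoh M) :=
  SGA6.mapSub (𝟭 X.Modules) (KRR.vbP X) (fun M : X.Modules => Coh.IsCoh M) hX

/-- The class in the coherent group of a direct image. -/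
theorem toC_push [IsNoetherian Y] (hY : KRR.HasEnoughLocFree Y)
    (hreg : ∀ y : Y, IsRegularLocalRing (Y.presheaf.stalk y))
    (hYc : ∀ M : Y.Modules, FlatMod.IsFinLocFree M → Coh.IsCoh M) {i : X ⟶ Y} {a : SGA6.Kvb X →+ SGA6.Kvb Y}
    (ha : K0ResLF.IsPush i a) {F : X.Modules} (hF : FlatMod.IsFinLocFree F)
    (hc : Coh.IsCoh ((Scheme.Modules.pushforward i).obj F)) :
    toC Y hYc (a (cls F)) = KZero.clSub (fun M : Y.Modules => Coh.IsCoh M) ((Scheme.Modules.pushforward i).obj F) := by
  obtain ⟨m, hm⟩ := K0ResLF.exists_pdLT_of_regular hY hreg hc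
  obtain ⟨n, L, π, hL⟩ := K0ResLF.hasLFRes_of_pdLT hY hc (n := m) hm
  haveI := hL.quasiIso
  rw [K0ResLF.cl_eq_sum (fun M : Y.Modules => Coh.IsCoh M) (K0ResLF.hypCoh hY).ker₁ hc n L π hL.isZero
    (fun i => K0Coh.isCoh_of_isFinLocFree (hL.finLocFree i)), ha F hF n L π hL, map_sum]
  exact Finset.sum_congr rfl fun k _ => by
    rw [map_zsmul]
    exact congrArg _ (K0Filt.mapSub_cl _ _ _ _ (hL.finLocFree k))

theorem resK_toC [IsNoetherian X] [IsNoetherian Y] (f : Y ⟶ X) [IsOpenImmersion f]
    (hX : ∀ M : X.Modules, FlatMod.IsFinLocFree M → Coh.IsCoh M)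
    (hY : ∀ M : Y.Modules, FlatMod.IsFinLocFree M → Coh.IsCoh M) (z : SGA6.Kvb X) :
    K0Filt.resK f (toC X hX z) = toC Y hY (pullK f z) := by
  refine DFunLike.congr_fun (SGA6Ext.hom_ext_cls (f := (K0Filt.resK f).comp (toC X hX))
    (g := (toC Y hY).comp (pullK f)) fun E hE => ?_) z
  have hf := DerPerf.isFinLocFree_pullback f hE
  show K0Filt.resK f (toC X hX (cls E)) = toC Y hY (pullK f (cls E))
  rw [SGA6Ext.pullK_cls f hE, show toC X hX (cls E) = _ from K0Filt.mapSub_cl _ _ _ _ hE,
    show toC Y hY (cls _) = _ from K0Filt.mapSub_cl _ _ _ _ hf]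
  exact (K0Filt.mapSub_cl _ _ _ _ (hX E hE)).trans
    (K0Filt.cl_congr ((Scheme.Modules.restrictFunctorIsoPullback f).app E) (K0Filt.isCoh_restrict f E (hX E hE)))

variable [IsNoetherian X] [ConnectedSpace ↥X]

/-- The classes lying rationally in the image of the filtration. -/
def filC (hX : ∀ M : X.Modules, FlatMod.IsFinLocFree M → Coh.IsCoh M) (n : ℕ) :
    AddSubgroup (KZero.K0sub (fun M : X.Modules => Coh.IsCoh M)) where
  carrier := {c | ∃ (N : ℕ) (z : SGA6.Kvb X), 1 ≤ N ∧ z ∈ gammaFiltration (kvbPos X) n ∧ N • c = toC X hX z}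
  zero_mem' := ⟨1, 0, le_rfl, zero_mem _, by rw [smul_zero, map_zero]⟩
  add_mem' := by
    rintro c c' ⟨N, z, hN, hz, e⟩ ⟨N', z', hN', hz', e'⟩
    refine ⟨N * N', N' • z + N • z', Nat.mul_pos hN hN', add_mem (nsmul_mem hz _) (nsmul_mem hz' _), ?_⟩
    rw [map_add, map_nsmul, map_nsmul, ← e, ← e', smul_smul, smul_smul, smul_add, mul_comm N' N]
  neg_mem' := by
    rintro c ⟨N, z, hN, hz, e⟩
    exact ⟨N, -z, hN, neg_mem hz, by rw [map_neg, smul_neg, e]⟩

theorem mem_filC_of_nsmul {hX : ∀ M : X.Modules, FlatMod.IsFinLocFree M → Coh.IsCoh M} {n N : ℕ} (hN : 1 ≤ N)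
    {c : KZero.K0sub (fun M : X.Modules => Coh.IsCoh M)} (h : N • c ∈ filC hX n) : c ∈ filC hX n := by
  obtain ⟨N', z, hN', hz, e⟩ := h
  exact ⟨N' * N, z, Nat.mul_pos hN' hN, hz, by rw [mul_smul, e]⟩

theorem stalk_dim_mono {ξ η : X} (h : ξ ⤳ η) :
    ringKrullDim (X.presheaf.stalk ξ) ≤ ringKrullDim (X.presheaf.stalk η) := by
  rw [ringKrullDim_stalk_eq_coheight, ringKrullDim_stalk_eq_coheight, WithBot.coe_le_coe]
  exact Order.coheight_anti h

/-- The structure sheaf of the closure of a point is in the filtration of the dimension of its local ring. -/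
theorem closure_mem_filC {L : X.Modules} (hL : CohB1.IsAmple L)
    (hreg : ∀ x : X, IsRegularLocalRing (X.presheaf.stalk x))
    (hX : ∀ M : X.Modules, FlatMod.IsFinLocFree M → Coh.IsCoh M) (n : ℕ) :
    ∀ ξ : X, (n : WithBot ℕ∞) ≤ ringKrullDim (X.presheaf.stalk ξ) →
      KZero.clSub (fun M : X.Modules => Coh.IsCoh M) (Cyc.closureStructureSheaf ξ) ∈ filC hX n := by
  suffices h : ∀ (W : Closeds X) (ξ : X), closure {ξ} = (W : Set X) →
      (n : WithBot ℕ∞) ≤ ringKrullDim (X.presheaf.stalk ξ) →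
      KZero.clSub (fun M : X.Modules => Coh.IsCoh M) (Cyc.closureStructureSheaf ξ) ∈ filC hX n from
    fun ξ => h ⟨_, isClosed_closure⟩ ξ rfl
  intro W
  induction W using (wellFounded_lt (α := Closeds X)).induction with
  | h W ih => ?_
  intro ξ hW hn
  haveI : IsRegularLocalRing (X.presheaf.stalk ξ) := hreg ξ
  obtain ⟨U, m, hξU, hout, hdim, hj, hC⟩ := exists_regular_open ξ
  let j := clInc ξ ∣_ U
  haveI := hj.1
  haveI : IrreducibleSpace ↥X := CurveRR.Easy.irreducibleSpace_of_domain_stalks fun x => by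
    haveI := hreg x
    exact (S2821.result (X.presheaf.stalk x)).1
  haveI : IrreducibleSpace ↥U.toScheme := by
    have hirr : IsIrreducible (U : Set X) := ⟨⟨ξ, hξU⟩,
      (IrreducibleSpace.isIrreducible_univ _).2.open_subset U.2 (Set.subset_univ _)⟩
    exact isIrreducible_iff_irreducibleSpace.1 hirr
  haveI : ConnectedSpace ↥U.toScheme := inferInstance
  haveI : ConnectedSpace ↥(clInc ξ ⁻¹ᵁ U).toScheme := connected_clInc_preimage ξ hξU
  haveI : IsNoetherian U.toScheme := LocImmFT.isNoetherian_opens U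
  have hLU := TMul.isAmple_pullback U.ι U.ι.isOpenEmbedding.isInducing hL
  have hXe : KRR.HasEnoughLocFree X := fun F hF => ResDesc.hasResolutionProperty_of_isAmple L hL F hF.1 hF.2
  have hUe : KRR.HasEnoughLocFree U.toScheme := fun F hF => ResDesc.hasResolutionProperty_of_isAmple _ hLU F hF.1 hF.2
  have hregU : ∀ x : U.toScheme, IsRegularLocalRing (U.toScheme.presheaf.stalk x) := fun x => by
    haveI := hreg (U.ι x)
    exact IsRegularLocalRing.of_ringEquiv (asIso (U.ι.stalkMap x)).commRingCatIsoToRingEquiv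
  have hUc : ∀ M : U.toScheme.Modules, FlatMod.IsFinLocFree M → Coh.IsCoh M := fun M hM =>
    K0Coh.isCoh_of_isFinLocFree hM
  have hbX : Function.Bijective (toC X hX) := K0ResLF.bijective_regular hXe hreg hX
  have hbU : Function.Bijective (toC U.toScheme hUc) := K0ResLF.bijective_regular hUe hregU hUc
  -- the complement
  let Z : Closeds X := ⟨(U : Set X)ᶜ, U.2.isClosed_compl⟩
  let i := (Scheme.IdealSheafData.vanishingIdeal Z).subschemeι
  have hri : Set.range i = (U : Set X)ᶜ := by
    rw [Scheme.IdealSheafData.range_subschemeι, Scheme.IdealSheafData.coe_support_vanishingIdeal]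
    rfl
  haveI : (Scheme.Modules.pushforward i).PreservesHomology := KFlat.preservesHomology_pushforward i
  haveI : PreservesFiniteLimits (Scheme.Modules.pushforward i) := Functor.preservesFiniteLimits_of_preservesHomology _
  haveI : PreservesFiniteColimits (Scheme.Modules.pushforward i) :=
    Functor.preservesFiniteColimits_of_preservesHomology _
  have hpush : ∀ M : (Scheme.IdealSheafData.vanishingIdeal Z).subscheme.Modules, Coh.IsCoh M →
      Coh.IsCoh ((Scheme.Modules.pushforward i).obj M) := fun M hM => by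
    haveI := hM.1
    exact QC.isCoh_pushforward_of_isFinite i hM.2
  haveI : IsLocallyNoetherian (Scheme.IdealSheafData.vanishingIdeal Z).subscheme :=
    LocallyOfFiniteType.isLocallyNoetherian i
  haveI : CompactSpace ↥(Scheme.IdealSheafData.vanishingIdeal Z).subscheme :=
    QuasiCompact.compactSpace_of_compactSpace i
  haveI : IsNoetherian (Scheme.IdealSheafData.vanishingIdeal Z).subscheme := {}
  obtain ⟨hsurj, hker⟩ := K0Filt.localization i hpush U (by rw [hri, compl_compl]) (K0Filt.isCoh_restrict U.ι)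
  -- the class on the open
  obtain ⟨a, ha⟩ := NormDef.push_exists hUe hj
  obtain ⟨N, hN, hfil⟩ := NormDef.fil_pushCl hLU j hj hC (KSplit.isModel_kvb _) (KSplit.isModel_kvb _)
    (h := a) ha 0 (x := 1) (Lambda.gammaFiltration_zero _)
  have hnm : n ≤ 0 + m := by
    have h := hn.trans hdim
    rw [Nat.cast_le] at h
    omega
  have hsurjK : Function.Surjective (KSplit.pullRing U.ι) := fun y => by
    obtain ⟨c, hc⟩ := hsurj (toC U.toScheme hUc y)
    obtain ⟨z, rfl⟩ := hbX.2 c
    exact ⟨z, hbU.1 ((resK_toC U.ι hX hUc z).symm.trans hc)⟩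
  obtain ⟨z, hz, hze⟩ := (isHom_pull U.ι).exists_lift hsurjK (Lambda.gammaFiltration_anti hnm hfil)
  have hcξ : Coh.IsCoh (Cyc.closureStructureSheaf ξ) := CycK0.isCoh_closureStructureSheaf ξ
  let e : (Scheme.Modules.restrictFunctor U.ι).obj (Cyc.closureStructureSheaf ξ) ≅
      (Scheme.Modules.pushforward j).obj (Coh.structureModule _) :=
    (RelPCS.pushRestrIso (clInc ξ) U).app (Coh.structureModule _) ≪≫
      (Scheme.Modules.pushforward j).mapIso (Scheme.Modules.restrictUnitIso (clInc ξ ⁻¹ᵁ U).ι)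
  have hcU := K0Filt.isCoh_restrict U.ι _ hcξ
  have h1 : K0Filt.resK U.ι (KZero.clSub (fun M : X.Modules => Coh.IsCoh M) (Cyc.closureStructureSheaf ξ)) =
      toC U.toScheme hUc (a 1) := by
    rw [NormDef.one_eq, toC_push hUe hregU hUc ha (ResDesc.isFinLocFree_structureModule _) (K0Coh.isCoh_of_iso e hcU)]
    exact (K0Filt.mapSub_cl _ _ _ _ hcξ).trans (K0Filt.cl_congr e hcU)
  have h2 : N • KZero.clSub (fun M : X.Modules => Coh.IsCoh M) (Cyc.closureStructureSheaf ξ) - toC X hX z ∈
      K0Filt.Rg i hpush := by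
    rw [← hker, AddMonoidHom.mem_ker, map_sub, map_nsmul]
    rw [show SGA6.mapSub (Scheme.Modules.restrictFunctor U.ι) (fun M : (X).Modules => Coh.IsCoh M)
      (fun M : (U.toScheme).Modules => Coh.IsCoh M) (K0Filt.isCoh_restrict U.ι) = K0Filt.resK U.ι from rfl,
      h1, resK_toC U.ι hX hUc, show pullK U.ι z = _ from hze, ← map_nsmul, sub_eq_zero]
    exact congrArg _ (nsmul_eq_mul N (a 1))
  refine mem_filC_of_nsmul hN ?_
  rw [← sub_add_cancel (N • KZero.clSub (fun M : X.Modules => Coh.IsCoh M) (Cyc.closureStructureSheaf ξ)) (toC X hX z)]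
  refine add_mem ?_ ⟨1, z, le_rfl, hz, one_smul _ _⟩
  obtain ⟨w, hw⟩ := h2
  rw [← hw]
  suffices h3 : K0Filt.Rg i hpush ≤ filC hX n from h3 ⟨w, rfl⟩
  rintro _ ⟨w, rfl⟩
  refine DFunLike.congr_fun (K0Filt.hom_ext_cl _ (f := (QuotientAddGroup.mk' (filC hX n)).comp
    (SGA6.mapSub (Scheme.Modules.pushforward i) (fun M : _ => Coh.IsCoh M) (fun M : X.Modules => Coh.IsCoh M) hpush))
    (g := 0) fun M hM => ?_) w |> (QuotientAddGroup.eq_zero_iff _).1
  show QuotientAddGroup.mk' (filC hX n) _ = _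
  rw [K0Filt.mapSub_cl _ _ _ _ hM]
  refine (QuotientAddGroup.eq_zero_iff _).2 ?_
  refine K0Filt.mem_of_generators Z.2 (filC hX n) (fun N => KZero.clSub (fun M : X.Modules => Coh.IsCoh M) N)
    (fun N hN => K0Filt.cl_zero hN) (fun S hS c₁ c₂ c₃ _ => K0Filt.cl_add hS c₁ c₂ c₃)
    (fun η hη => ?_) _ (hpush M hM) ?_
  · have hs : ξ ⤳ η := not_not.1 fun h => hη (hout η h)
    refine ih ⟨closure {η}, isClosed_closure⟩ (lt_of_le_not_ge ?_ fun hle => ?_) η rfl (hn.trans (stalk_dim_mono hs))
    · show closure {η} ⊆ (W : Set X)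
      rw [← hW]
      exact closure_minimal (Set.singleton_subset_iff.2 (specializes_iff_mem_closure.1 hs)) isClosed_closure
    · have h : ξ ∈ closure {η} := hle (show ξ ∈ (W : Set X) by rw [← hW]; exact subset_closure rfl)
      exact (closure_minimal (Set.singleton_subset_iff.2 hη) Z.2 h : ξ ∈ (U : Set X)ᶜ) hξU
  · exact (ClSubLib.support_pushforward_subset i M).trans hri.le

/-- The class of a closed subvariety of codimension `n`. -/
theorem integral_mem_filC {L : X.Modules} (hL : CohB1.IsAmple L)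
    (hreg : ∀ x : X, IsRegularLocalRing (X.presheaf.stalk x))
    (hX : ∀ M : X.Modules, FlatMod.IsFinLocFree M → Coh.IsCoh M)
    {V : Scheme.{u}} (ι : V ⟶ X) [IsClosedImmersion ι] [IsIntegral V] (n : ℕ)
    (hn : (n : WithBot ℕ∞) ≤ ringKrullDim (X.presheaf.stalk (ι (genericPoint V)))) :
    KZero.clSub (fun M : X.Modules => Coh.IsCoh M) ((Scheme.Modules.pushforward ι).obj (Coh.structureModule V)) ∈
      filC hX n := by
  haveI : IsLocallyNoetherian V := LocallyOfFiniteType.isLocallyNoetherian ι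
  have hc : Coh.IsCoh ((Scheme.Modules.pushforward ι).obj (Coh.structureModule V)) := by
    have h := RefStalk.isCoh_structureModule (X := V)
    haveI := h.1
    exact QC.isCoh_pushforward_of_isFinite ι h.2
  refine K0Filt.mem_of_generators (Y := closure {ι (genericPoint V)}) isClosed_closure (filC hX n)
    (fun N => KZero.clSub (fun M : X.Modules => Coh.IsCoh M) N) (fun N hN => K0Filt.cl_zero hN)
    (fun S hS c₁ c₂ c₃ _ => K0Filt.cl_add hS c₁ c₂ c₃)
    (fun η hη => closure_mem_filC hL hreg hX n η (hn.trans (stalk_dim_mono (specializes_iff_mem_closure.2 hη))))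
    _ hc ?_
  refine (ClSubLib.support_pushforward_subset ι _).trans ?_
  rintro _ ⟨v, rfl⟩
  exact ((genericPoint_specializes v).map ι.continuous).mem_closure

end Groth.Agent.GRR
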