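import Groth.Agent.KoszulLib.NearPoint
import Groth.Agent.SerreReg.MiracleFinite
import Groth.Agent.SerreReg.Descent
import Groth.Agent.ExtFund.CanonIndep
import Groth.Agent.S11309
import Groth.Prelude.Def_IntMult

/-!
Near a point of a regular scheme its closure is regularly immersed, of codimension the dimension of the local ring.
-/

set_option autoImplicit false
set_option linter.style.haveILetI false
set_option backward.isDefEq.respectTransparency false
set_option backward.isDefEq.respectTransparency.types false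

universe u

open CategoryTheory CategoryTheory.Limits AlgebraicGeometry TopologicalSpace RingTheory.Sequence

noncomputable section

namespace Groth.Agent.GRR

variable {X : Scheme.{u}}

/-- The reduced closure of a point. -/
abbrev clInc (ξ : X) : (IntMult.ptIdeal ξ).subscheme ⟶ X := (IntMult.ptIdeal ξ).subschemeι

theorem range_clInc (ξ : X) : Set.range (clInc ξ) = closure {ξ} := by
  rw [Scheme.IdealSheafData.range_subschemeι, IntMult.ptIdeal, Scheme.IdealSheafData.coe_support_vanishingIdeal]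
  rfl

theorem irreducibleSpace_clInc (ξ : X) : IrreducibleSpace ↥(IntMult.ptIdeal ξ).subscheme := by
  obtain ⟨z, hz⟩ : ξ ∈ Set.range (clInc ξ) := by rw [range_clInc]; exact subset_closure rfl
  have h : closure {z} = (Set.univ : Set (IntMult.ptIdeal ξ).subscheme) := by
    rw [(clInc ξ).isEmbedding.closure_eq_preimage_closure_image, Set.image_singleton, hz, ← range_clInc,
      Set.preimage_range]
  exact { toPreirreducibleSpace := ⟨h ▸ isIrreducible_singleton.closure.2⟩, toNonempty := ⟨z⟩ }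

theorem connected_clInc_preimage (ξ : X) {U : X.Opens} (h : ξ ∈ U) :
    ConnectedSpace ↥((clInc ξ ⁻¹ᵁ U : Scheme.{u})) := by
  haveI := irreducibleSpace_clInc ξ
  obtain ⟨z, hz⟩ : ξ ∈ Set.range (clInc ξ) := by rw [range_clInc]; exact subset_closure rfl
  have hne : (clInc ξ ⁻¹ᵁ U : Set (IntMult.ptIdeal ξ).subscheme).Nonempty :=
    ⟨z, show clInc ξ z ∈ U by rw [hz]; exact h⟩
  have hirr : IsIrreducible (clInc ξ ⁻¹ᵁ U : Set (IntMult.ptIdeal ξ).subscheme) :=
    ⟨hne, (IrreducibleSpace.isIrreducible_univ _).2.open_subset (clInc ξ ⁻¹ᵁ U).2 (Set.subset_univ _)⟩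
  haveI := isIrreducible_iff_irreducibleSpace.1 hirr
  exact inferInstanceAs (ConnectedSpace ↥(clInc ξ ⁻¹ᵁ U : Set (IntMult.ptIdeal ξ).subscheme))

theorem ker_app_clInc (ξ : X) (U : X.affineOpens) (hξ : ξ ∈ U.1) :
    RingHom.ker ((clInc ξ).app U.1).hom = (U.2.primeIdealOf ⟨ξ, hξ⟩).asIdeal := by
  rw [← Scheme.Hom.ker_apply, Scheme.IdealSheafData.ker_subschemeι, IntMult.ptIdeal,
    Scheme.IdealSheafData.vanishingIdeal_ideal]
  refine le_antisymm (fun b hb => ?_) fun b hb => ?_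
  · refine (PrimeSpectrum.mem_vanishingIdeal _ _).1 hb _ ?_
    show U.2.fromSpec (U.2.primeIdealOf ⟨ξ, hξ⟩) ∈ closure {ξ}
    rw [U.2.fromSpec_primeIdealOf]
    exact subset_closure rfl
  · rw [PrimeSpectrum.mem_vanishingIdeal]
    intro p hp
    have h1 : U.2.fromSpec (U.2.primeIdealOf ⟨ξ, hξ⟩) ⤳ U.2.fromSpec p := by
      rw [U.2.fromSpec_primeIdealOf]
      exact specializes_iff_mem_closure.2 hp
    exact (PrimeSpectrum.le_iff_specializes _ _).2 (U.2.fromSpec.isOpenEmbedding.isInducing.specializes_iff.1 h1) hb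

/-- Near `ξ` the closure of `ξ` is regularly immersed. -/
theorem exists_regular_open [IsLocallyNoetherian X] (ξ : X) [IsRegularLocalRing (X.presheaf.stalk ξ)] :
    ∃ (U : X.Opens) (m : ℕ), ξ ∈ U ∧ (∀ x, ¬ ξ ⤳ x → x ∈ U) ∧
      ringKrullDim (X.presheaf.stalk ξ) ≤ (m : WithBot ℕ∞) ∧
      Mor2.IsRegularClosedImmersion (clInc ξ ∣_ U) ∧
      FlatMod.IsFinLocFreeOfRank m (Omega.conormal (clInc ξ ∣_ U)) := by
  obtain ⟨z, hz⟩ : ξ ∈ Set.range (clInc ξ) := by rw [range_clInc]; exact subset_closure rfl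
  obtain ⟨A, hzA, hcA⟩ := KoszulLib.exists_closed_nhd (clInc ξ) z
  letI := (X.presheaf.germ A.1 (clInc ξ z) hzA).hom.toAlgebra
  haveI := A.2.isLocalization_stalk ⟨clInc ξ z, hzA⟩
  have hreg : IsRegularLocalRing (X.presheaf.stalk (clInc ξ z)) := by
    have := ‹IsRegularLocalRing (X.presheaf.stalk ξ)›
    rwa [← hz] at this
  haveI := hreg
  have hmax : ∀ (B : X.affineOpens) (hB : clInc ξ z ∈ B.1) (hcB : IsClosedImmersion (clInc ξ ∣_ B.1)),
      (RingHom.ker ((clInc ξ).app B.1).hom).map (X.presheaf.germ B.1 (clInc ξ z) hB).hom =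
        IsLocalRing.maximalIdeal (X.presheaf.stalk (clInc ξ z)) := by
    intro B hB hcB
    letI := (X.presheaf.germ B.1 (clInc ξ z) hB).hom.toAlgebra
    haveI := B.2.isLocalization_stalk ⟨clInc ξ z, hB⟩
    have hξB : ξ ∈ B.1 := hz ▸ hB
    rw [ker_app_clInc ξ B hξB,
      show (⟨ξ, hξB⟩ : B.1) = ⟨clInc ξ z, hB⟩ from Subtype.ext hz.symm]
    exact IsLocalization.AtPrime.map_eq_maximalIdeal _ (X.presheaf.stalk (clInc ξ z))
  obtain ⟨d, hd⟩ := SerreReg.exists_dim (X.presheaf.stalk (clInc ξ z))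
  obtain ⟨ts, -, hts, hspan⟩ := SerreReg.exists_regular_rsop d _ hd
  have hts' : IsRegular (X.presheaf.stalk (clInc ξ z)) ts :=
    (IsLocalRing.isRegular_iff_isWeaklyRegular_of_subset_maximalIdeal
      fun x hx => hspan ▸ Ideal.subset_span hx).2 hts
  obtain ⟨U₀, hzU, hc, rs, hrs, hker⟩ := (KoszulLib.isRegularImmersionAt_iff_stalk .regular (clInc ξ) z).2
    ⟨ts, hspan.trans ((hmax A hzA hcA).symm.trans (KoszulLib.ker_stalkMap_eq (clInc ξ) z A hcA hzA).symm), hts'⟩
  have hdim : ringKrullDim (X.presheaf.stalk ξ) ≤ (rs.length : WithBot ℕ∞) := by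
    rw [← hz]
    refine (ringKrullDim_le_spanFinrank_maximalIdeal _).trans ?_
    norm_cast
    rw [← hmax U₀ hzU hc, hker, Ideal.map_ofList, Ideal.ofList]
    classical
    refine le_trans (Submodule.spanFinrank_span_le_ncard_of_finite (List.finite_toSet _)) ?_
    rw [show {r | r ∈ List.map (X.presheaf.germ U₀.1 (clInc ξ z) hzU).hom rs} =
      ((rs.map (X.presheaf.germ U₀.1 (clInc ξ z) hzU).hom).toFinset : Set _) from (List.coe_toFinset _).symm,
      Set.ncard_coe_finset]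
    exact (List.toFinset_card_le _).trans (by simp)
  let U : X.Opens := U₀.1 ⊔ ⟨(closure {ξ})ᶜ, isClosed_closure.isOpen_compl⟩
  refine ⟨U, rs.length, Or.inl (hz ▸ hzU),
    fun x hx => Or.inr fun h => hx (specializes_iff_mem_closure.2 h), hdim, ?_⟩
  let j := clInc ξ ∣_ U
  haveI : IsClosedImmersion j := IsZariskiLocalAtTarget.restrict (P := @IsClosedImmersion) inferInstance U
  have hU : U₀.1 ≤ U := le_sup_left
  have hV : IsAffineOpen (U.ι ⁻¹ᵁ U₀.1) := by
    refine U₀.2.preimage_of_isOpenImmersion U.ι ?_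
    rw [Scheme.Opens.opensRange_ι]
    exact hU
  have key : RegImm.IsRegularImmersionOfCodim RegImm.Kind.regular rs.length j := by
    refine ⟨inferInstance, fun w => ⟨⟨_, hV⟩, ?_, ?_⟩⟩
    · have h1 : (clInc ξ) w.1 ∈ U := w.2
      have h2 : (clInc ξ) w.1 ∈ closure {ξ} := range_clInc ξ ▸ ⟨w.1, rfl⟩
      show U.ι (j w) ∈ U₀.1
      rw [← Scheme.Hom.comp_apply, morphismRestrict_ι]
      exact h1.resolve_right fun h => h h2
    obtain ⟨hc', hk'⟩ := KoszulLib.ker_app_of_isPullback (isPullback_morphismRestrict (clInc ξ) U).flip U₀ hc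
      ⟨_, hV⟩ le_rfl
    refine ⟨hc', ?_⟩
    haveI : IsIso (U.ι.appLE U₀.1 (U.ι ⁻¹ᵁ U₀.1) le_rfl) := by
      rw [← Scheme.Hom.app_eq_appLE]
      exact U.ι.isIso_app _ (by rw [Scheme.Opens.opensRange_ι]; exact hU)
    let e := (asIso (U.ι.appLE U₀.1 (U.ι ⁻¹ᵁ U₀.1) le_rfl)).commRingCatIsoToRingEquiv
    refine ⟨rs.map e, by simp, TorCI.isRegular_map_ringEquiv e hrs, ?_⟩
    rw [hk', hker, Ideal.map_ofList]
    rfl
  exact ⟨S11309.isRegularClosedImmersion j ⟨inferInstance, fun w => by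
    obtain ⟨V, h1, h2, ts, -, h3, h4⟩ := key.2 w
    exact ⟨V, h1, h2, ts, h3, h4⟩⟩, ExtFund.isFinLocFreeOfRank_conormal_reg j key⟩

end Groth.Agent.GRR
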