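import Groth.Agent.K0ResLF.RpushChi
import Groth.Agent.K0ResLF.Main
import Groth.Agent.W7Cech.RpushSec
import Groth.Agent.PerfPush.Sections
import Groth.Agent.CohFinite.RPushVanish
import Groth.Agent.CohFinite.Linear
import Groth.Agent.FEtRank.PushRank
import Groth.Agent.QC.Coherent
import Groth.Agent.FinLFLift.Basic
import Groth.Agent.SiteCoh.Cover
import Groth.Agent.S0458
import Groth.Agent.SGA6Ext.Model

/-!
Euler characteristics as push-forwards to the point.
-/

set_option autoImplicit false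
set_option linter.style.haveILetI false
set_option linter.unusedSectionVars false
set_option backward.isDefEq.respectTransparency false
set_option backward.isDefEq.respectTransparency.types false
set_option maxHeartbeats 1000000
set_option synthInstance.maxHeartbeats 200000

universe u

open CategoryTheory CategoryTheory.Limits AlgebraicGeometry Opposite TopologicalSpace

attribute [local instance] HasDerivedCategory.standard

noncomputable section

namespace Groth.Agent.GRR

open Groth.Agent.K0ResLF (clK)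

variable (k : Type u) [Field k]

/-- The point. -/
abbrev pt : Scheme.{u} := Spec (CommRingCat.of k)

theorem isField_sections : IsField Γ(pt k, (⊤ : (pt k).Opens)) :=
  (Scheme.ΓSpecIso (CommRingCat.of k)).commRingCatIsoToRingEquiv.toMulEquiv.isField (Field.toIsField k)

theorem eq_top_of_mem {V : (pt k).Opens} {x : pt k} (h : x ∈ V) : V = ⊤ := by
  haveI : Subsingleton (pt k) := inferInstanceAs (Subsingleton (PrimeSpectrum k))
  exact eq_top_iff.2 fun y _ => Subsingleton.elim x y ▸ h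

variable {k}

/-- The dimension of the space of sections. -/
def sdim (M : (pt k).Modules) : ℤ := (Module.finrank Γ(pt k, (⊤ : (pt k).Opens)) Γ(M, ⊤) : ℕ)

theorem sdim_add {S : ShortComplex (pt k).Modules} (hS : S.ShortExact) (h₁ : Coh.IsCoh S.X₁)
    (h₂ : Coh.IsCoh S.X₂) : sdim S.X₂ = sdim S.X₁ + sdim S.X₃ := by
  letI := (isField_sections k).toField
  haveI := hS.mono_f
  haveI := hS.epi_g
  let f := QC.appₗ S.f (⊤ : (pt k).Opens)
  let g := QC.appₗ S.g (⊤ : (pt k).Opens)
  haveI : Module.Finite Γ(pt k, (⊤ : (pt k).Opens)) Γ(S.X₂, ⊤) :=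
    (QC.isCoh_iff_finite_sections.mp h₂).2 ⟨⊤, isAffineOpen_top _⟩
  have hf : Function.Injective f := QC.app_injective_of_mono S.f ⊤
  have hg : Function.Surjective g := fun t => by
    obtain ⟨x⟩ : Nonempty (pt k) := inferInstanceAs (Nonempty (PrimeSpectrum k))
    obtain ⟨V, hV, hxV, s, hs⟩ := FinLFLift.exists_lift_section S.g t (x := x) (U := ⊤) trivial
    obtain rfl := eq_top_of_mem k hxV
    exact ⟨s, hs.trans (QC.res_self _ le_rfl t)⟩
  have hex : LinearMap.range f = LinearMap.ker g := by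
    refine le_antisymm ?_ fun x hx => ?_
    · rintro _ ⟨y, rfl⟩
      exact ConcreteCategory.congr_hom (congrArg (fun m : S.X₁ ⟶ S.X₃ => Scheme.Modules.Hom.app m ⊤) S.zero) y
    · obtain ⟨y, hy⟩ := SiteCoh.sections_exact (CohFinite.shortExact_toAb hS) (⊤ : (pt k).Opens) x hx
      exact ⟨y, hy⟩
  have h := g.finrank_range_add_finrank_ker
  rw [LinearMap.range_eq_top.2 hg, finrank_top, ← hex, LinearMap.finrank_range_of_inj hf] at h
  unfold sdim
  omega

variable (k) in
/-- The dimension, on the Grothendieck group of coherent modules. -/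
def dimK : SGA6.Kcoh (pt k) →+ ℤ :=
  PnReg.liftSub (fun M => sdim M.1) fun _ h₁ h₂ _ hS => sdim_add hS h₁ h₂

theorem dimK_cl {M : (pt k).Modules} (hM : Coh.IsCoh M) : dimK k (clK M) = sdim M :=
  PnReg.liftSub_cl _ _ hM

theorem sdim_rank {E : (pt k).Modules} {m : ℕ} (hE : FlatMod.IsFinLocFreeOfRank m E) : sdim E = m := by
  obtain ⟨x⟩ : Nonempty (pt k) := inferInstanceAs (Nonempty (PrimeSpectrum k))
  obtain ⟨W, hx, ⟨e⟩⟩ := hE x
  obtain rfl := eq_top_of_mem k hx
  obtain ⟨l, -⟩ := FEtRank.finrank_sections_of_le e (isAffineOpen_top (pt k)) le_rfl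
  letI := (isField_sections k).toField
  rw [sdim, LinearEquiv.finrank_eq l]
  simp

variable {X : Scheme.{u}} [X.Over (pt k)]

/-- Sections of the higher direct images are the cohomology. -/
theorem sdim_rpush [HasInjectiveResolutions X.Modules] [QuasiCompact (X ↘ pt k)] [QuasiSeparated (X ↘ pt k)]
    (G : X.Modules) (hG : Coh.IsQCoh G) (i : ℕ) :
    sdim ((Coh.Rpush (X ↘ pt k) i).obj G) = (Module.finrank k (Coh.HH X G i) : ℕ) := by
  let S : Scheme.{u} := pt k
  let f : X ⟶ S := X ↘ pt k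
  have hV : IsAffineOpen (⊤ : S.Opens) := isAffineOpen_top S
  letI hU : (f ⁻¹ᵁ (⊤ : S.Opens)).toScheme.Over (Spec (CommRingCat.of Γ(S, ⊤))) :=
    ⟨(f ∣_ ⊤) ≫ hV.isoSpec.hom⟩
  letI hX : X.Over (Spec (CommRingCat.of Γ(S, ⊤))) := ⟨f ≫ S.toSpecΓ⟩
  obtain ⟨e₁⟩ := W7Cech.nonempty_rpush_sections f G hG i hV
  let j : (f ⁻¹ᵁ (⊤ : S.Opens)).toScheme ⟶ X := (f ⁻¹ᵁ (⊤ : S.Opens)).ι
  haveI : IsIso j := inferInstanceAs (IsIso X.topIso.hom)
  haveI : (G.restrict j).IsQuasicoherent := QC.isQCoh_restrict j hG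
  have hj : j ≫ (X ↘ Spec (CommRingCat.of Γ(S, ⊤))) =
      ((f ⁻¹ᵁ (⊤ : S.Opens)).toScheme ↘ Spec (CommRingCat.of Γ(S, ⊤))) := by
    change j ≫ f ≫ S.toSpecΓ = (f ∣_ ⊤) ≫ hV.isoSpec.hom
    rw [IsAffineOpen.isoSpec_hom, Scheme.Opens.toSpecΓ_top, ← Category.assoc, ← Category.assoc, morphismRestrict_ι]
  obtain ⟨e₂⟩ := CohFinite.hh_push_linear Γ(S, ⊤) j hj (G.restrict j) (CohQC.directAcyclic_of_isAffineHom j _) i
  haveI := PerfPush.isIso_restrict_unit j G
  let e₃ := CohFinite.hhEquiv Γ(S, ⊤) (asIso ((Scheme.Modules.restrictAdjunction j).unit.app G)).symm i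
  rw [sdim, LinearEquiv.finrank_eq ((e₁.trans e₂).trans e₃)]
  let σ : k ≃+* Γ(S, ⊤) := (Scheme.ΓSpecIso (CommRingCat.of k)).symm.commRingCatIsoToRingEquiv
  have key : ∀ (r : k) (x : Coh.HH X G i), (r • x : Coh.HH X G i) = σ r • x := fun r x => by
    change Coh.toGlobal f r • (show Coh.HH X G i from x) =
      Coh.toGlobal (f ≫ S.toSpecΓ) (σ r) • (show Coh.HH X G i from x)
    congr 1
    change f.appTop (σ r) = (f ≫ S.toSpecΓ).appTop ((Scheme.ΓSpecIso Γ(S, ⊤)).inv (σ r))
    rw [Scheme.Hom.comp_appTop, Scheme.toSpecΓ_appTop]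
    exact (congrArg f.appTop (ConcreteCategory.congr_hom (Scheme.ΓSpecIso Γ(S, ⊤)).inv_hom_id (σ r))).symm
  congr 1
  unfold Module.finrank
  exact congrArg _ (rank_eq_of_equiv_equiv σ (AddEquiv.refl _) σ.bijective key).symm

theorem rpush_vanish [HasInjectiveResolutions X.Modules] [IsProper (X ↘ pt k)] {d : ℕ}
    (hd : topologicalKrullDim ↥X ≤ (d : WithBot ℕ∞)) (G : X.Modules) (hG : Coh.IsCoh G) {q : ℕ} (hq : d < q) :
    IsZero ((Coh.Rpush (X ↘ pt k) q).obj G) := by
  haveI : IsLocallyNoetherian X := LocallyOfFiniteType.isLocallyNoetherian (X ↘ pt k)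
  haveI : CompactSpace ↥X := QuasiCompact.compactSpace_of_compactSpace (X ↘ pt k)
  haveI : IsNoetherian X := {}
  have hc := CohFinite.isCoh_rpush (X ↘ pt k) G hG q
  haveI : Subsingleton (Coh.HH X G q) := S0458.result (X := X.toPresheafedSpace.carrier) d hd (Coh.toAb G) q hq
  have h0 := sdim_rpush (k := k) G hG.1 q
  rw [Module.finrank_zero_of_subsingleton, Nat.cast_zero, sdim, Nat.cast_eq_zero] at h0
  refine CohFinite.isZero_of_affine_cover _ hc.1 (fun _ : Unit => (⊤ : (pt k).Opens)) (fun _ => isAffineOpen_top _)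
    (fun _ => ⟨(), trivial⟩) fun _ s => ?_
  letI := (isField_sections k).toField
  haveI := (QC.isCoh_iff_finite_sections.mp hc).2 ⟨⊤, isAffineOpen_top _⟩
  haveI := Module.finrank_zero_iff.1 h0
  exact Subsingleton.elim _ _

end Groth.Agent.GRR
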