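import Groth.Agent.GRR.Chern
import Mathlib.LinearAlgebra.Lagrange
import Mathlib.LinearAlgebra.Eigenspace.Minpoly

/-!
Leading terms of maps commuting with the degree scalings.
-/

set_option autoImplicit false
set_option linter.style.haveILetI false
set_option linter.unusedSectionVars false
set_option backward.isDefEq.respectTransparency false
set_option backward.isDefEq.respectTransparency.types false
set_option maxHeartbeats 800000
set_option synthInstance.maxHeartbeats 200000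

universe u w

open Finset LambdaRing LaurentPolynomial TensorProduct

noncomputable section

namespace Groth.Agent.GRR

open Groth.Agent.KRRLam

variable {K : Type u} [CommRing K] [LambdaOps K] {P : PosStructure K}

theorem grK_neg_degree (m : ℕ) (x : K) : KGr.grK P (-((m + 1 : ℕ) : ℤ)) x = 0 := by
  have hC : ∀ c : K, (LaurentPolynomial.C c * T (-(-((m + 1 : ℕ) : ℤ))) : LaurentPolynomial K) ∈ KGr.rees P := by
    intro c
    have h := mul_mem (mem_rees (n := 0) (Lambda.gammaFiltration_zero (P := P) c)) (pow_mem (KGr.tGen P).2 (m + 1))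
    rw [Nat.cast_zero, neg_zero, T_zero, mul_one, KGr.tGen, T_pow, mul_one] at h
    rwa [neg_neg]
  have h : ∃ N : ℕ, 1 ≤ N ∧ LaurentPolynomial.C ((N : K) * x) * T (-(-((m + 1 : ℕ) : ℤ))) ∈ KGr.rees P :=
    ⟨1, le_rfl, hC _⟩
  rw [KGr.grK, dif_pos h]
  refine (congrArg (fun z => ((1 : ℚ) / ((h.choose : ℕ) : ℚ)) ⊗ₜ[ℤ] z) ?_).trans (tmul_zero _ _)
  rw [Ideal.Quotient.eq_zero_iff_mem, Ideal.mem_span_singleton]
  refine ⟨(⟨_, mem_rees (n := 0) (Lambda.gammaFiltration_zero (P := P) ((h.choose : K) * x))⟩ : KGr.rees P) *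
    KGr.tGen P ^ m, Subtype.ext ?_⟩
  show LaurentPolynomial.C ((h.choose : K) * x) * T (-(-((m + 1 : ℕ) : ℤ))) =
    (T 1 : LaurentPolynomial K) * (LaurentPolynomial.C ((h.choose : K) * x) * T (-((0 : ℕ) : ℤ)) * T 1 ^ m)
  rw [T_pow, mul_one, mul_assoc, mul_left_comm (T 1 : LaurentPolynomial K), ← T_add, ← T_add]
  congr 2
  push_cast
  ring

/-- Rescaling of a representative. -/
theorem grK_scale' {n : ℕ} {x : K} {N : ℕ} (hN : 1 ≤ N) (hx : (N : K) * x ∈ gammaFiltration P n) :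
    KGr.grK P (n : ℤ) x = (1 / (N : ℚ)) • KGr.grK P (n : ℤ) ((N : K) * x) := by
  have h : ∃ M : ℕ, 1 ≤ M ∧ LaurentPolynomial.C ((M : K) * x) * LaurentPolynomial.T (-(n : ℤ)) ∈ KGr.rees P :=
    ⟨N, hN, mem_rees hx⟩
  have hM : ((h.choose : ℕ) : K) * x ∈ gammaFiltration P n := by
    have h' := coeff_rees h.choose_spec.2 (-(n : ℤ))
    rwa [← LaurentPolynomial.single_eq_C_mul_T, AddMonoidAlgebra.coeff_single, Finsupp.single_apply, if_pos rfl,
      neg_neg, Int.toNat_natCast] at h'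
  have e1 : KGr.grK P (n : ℤ) x = ((1 : ℚ) / (h.choose : ℕ)) • KGr.grK P (n : ℤ) (((h.choose : ℕ) : K) * x) := by
    conv_lhs => rw [KGr.grK, dif_pos h]
    rw [grK_eq hM, toGr, RingHom.comp_apply]
    erw [TensorProduct.smul_tmul']
    rw [smul_eq_mul, mul_one]
  have e2 := grK_natCast_mul (P := P) h.choose hx
  have e3 := grK_natCast_mul (P := P) N hM
  have hh : ((h.choose : ℕ) : K) * ((N : K) * x) = (N : K) * (((h.choose : ℕ) : K) * x) := mul_left_comm _ _ _
  rw [hh, e3] at e2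
  have hM0 : ((h.choose : ℕ) : ℚ) ≠ 0 := by exact_mod_cast Nat.one_le_iff_ne_zero.mp h.choose_spec.1
  have hN0 : (N : ℚ) ≠ 0 := by exact_mod_cast Nat.one_le_iff_ne_zero.mp hN
  rw [e1, ← inv_smul_smul₀ hN0 (KGr.grK P (n : ℤ) (((h.choose : ℕ) : K) * x)), e2, smul_smul, smul_smul]
  congr 1
  field_simp

/-- The span of the classes in degree at least `k`. -/
def geq (P : PosStructure K) (k : ℕ) : Submodule ℚ (KGr.Gr P) :=
  Submodule.span ℚ {z | ∃ m, k ≤ m ∧ ∃ a ∈ gammaFiltration P m, z = KGr.grK P (m : ℤ) a}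

theorem grK_mem_geq {k m : ℕ} (hkm : k ≤ m) {a : K} (ha : a ∈ gammaFiltration P m) :
    KGr.grK P (m : ℤ) a ∈ geq P k := Submodule.subset_span ⟨m, hkm, a, ha, rfl⟩

theorem mul_mem_geq {k l : ℕ} {z w : KGr.Gr P} (hz : z ∈ geq P k) (hw : w ∈ geq P l) : z * w ∈ geq P (k + l) := by
  induction hz using Submodule.span_induction with
  | mem z hz =>
    obtain ⟨m, hm, a, ha, rfl⟩ := hz
    induction hw using Submodule.span_induction with
    | mem w hw =>
      obtain ⟨m', hm', b, hb, rfl⟩ := hw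
      rw [grK_mul ha hb]
      exact grK_mem_geq (by omega) (Lambda.gammaFiltration_mul ha hb)
    | zero => rw [mul_zero]; exact zero_mem _
    | add x y _ _ hx hy => rw [mul_add]; exact add_mem hx hy
    | smul c x _ hx => rw [mul_smul_comm]; exact Submodule.smul_mem _ c hx
  | zero => rw [zero_mul]; exact zero_mem _
  | add x y _ _ hx hy => rw [add_mul]; exact add_mem hx hy
  | smul c x _ hx => rw [smul_mul_assoc]; exact Submodule.smul_mem _ c hx

theorem geq_anti {k l : ℕ} (h : k ≤ l) : geq P l ≤ geq P k :=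
  Submodule.span_mono fun _ ⟨m, hm, hz⟩ => ⟨m, h.trans hm, hz⟩

theorem geq_zero_eq_top (hK : HasSplitting K P) {d : ℕ} (hd : gammaFiltration P (d + 1) = ⊥) (z : KGr.Gr P) :
    z ∈ geq P 0 := by
  obtain ⟨w, rfl⟩ := (chLin_bijective hK hd).2 z
  induction w using TensorProduct.induction_on with
  | zero => rw [map_zero]; exact zero_mem _
  | add x y hx hy => rw [map_add]; exact add_mem hx hy
  | tmul q x =>
    rw [show q ⊗ₜ[ℤ] x = q • ((1 : ℚ) ⊗ₜ[ℤ] x) by rw [smul_tmul', smul_eq_mul, mul_one], map_smul, chLin_tmul, chK_eq]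
    exact Submodule.smul_mem _ q (sum_mem fun k _ => Submodule.smul_mem _ _ (grK_mem_geq k.zero_le (chC_mem k x)))

theorem aeval_sub_mem {σ : Type*} (g : σ → KGr.Gr P) (hg : ∀ i, g i ∈ geq P 1) (p : MvPolynomial σ ℚ) :
    MvPolynomial.aeval g p - algebraMap ℚ _ (MvPolynomial.constantCoeff p) ∈ geq P 1 := by
  have hone : ∀ c : ℚ, algebraMap ℚ (KGr.Gr P) c ∈ geq P 0 := fun c => by
    rw [Algebra.algebraMap_eq_smul_one]
    refine Submodule.smul_mem _ c ?_
    rw [← grK_zero_one (P := P)]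
    exact grK_mem_geq le_rfl (Lambda.gammaFiltration_zero _)
  induction p using MvPolynomial.induction_on with
  | C a => rw [MvPolynomial.aeval_C, MvPolynomial.constantCoeff_C, sub_self]; exact zero_mem _
  | add p q hp hq =>
    rw [map_add, map_add, map_add, add_sub_add_comm]
    exact add_mem hp hq
  | mul_X p i hp =>
    rw [map_mul, map_mul, MvPolynomial.aeval_X, MvPolynomial.constantCoeff_X, mul_zero, map_zero, sub_zero,
      ← sub_add_cancel (MvPolynomial.aeval g p) (algebraMap ℚ _ (MvPolynomial.constantCoeff p)), add_mul]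
    exact add_mem (geq_anti (show 1 ≤ 1 + 1 by omega) (mul_mem_geq hp (hg i)))
      (by simpa using mul_mem_geq (hone _) (hg i))

theorem constantCoeff_toddPoly (D : ℕ) : MvPolynomial.constantCoeff (KGr.toddPoly D) = 1 := by
  have h := todd_esymm (A := ℚ) (D := D) (0 : Multiset ℚ) (by simp)
  rw [Multiset.map_zero, Multiset.prod_zero,
    show (fun i : Fin D => (0 : Multiset ℚ).esymm (i.1 + 1)) = fun _ => (0 : ℚ) from
      funext fun i => Lambda.esymm_eq_zero _ (by simp)] at h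
  rw [← h, MvPolynomial.aeval_zero']
  rfl

theorem tdK_sub_one_mem (D : ℕ) (x : K) : KGr.tdK P D x - 1 ∈ geq P 1 := by
  have := aeval_sub_mem (P := P) (fun i : Fin D => KGr.chern P (i.1 + 1) x)
    (fun i => grK_mem_geq (Nat.le_add_left 1 i.1) (gamma_aug_mem x _)) (KGr.toddPoly D)
  rwa [constantCoeff_toddPoly, map_one] at this

theorem chK_expand (hK : HasSplitting K P) {d k : ℕ} (hd : gammaFiltration P (d + 1) = ⊥) {a : K}
    (ha : a ∈ gammaFiltration P k) : KGr.chK P d a - KGr.grK P (k : ℤ) a ∈ geq P (k + 1) := by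
  rcases lt_or_ge d k with h | h
  · have := Lambda.gammaFiltration_anti h ha
    rw [hd, AddSubgroup.mem_bot] at this
    rw [this, grK_zero, sub_zero, show KGr.chK P d (0 : K) = 0 from
      map_zero (AddMonoidHom.mk' (KGr.chK P d) (chK_add d))]
    exact zero_mem _
  have hg := good_of_mem hK ha
  rw [chK_eq, Finset.range_eq_Ico, ← Finset.sum_Ico_consecutive _ (Nat.zero_le k) (by omega),
    Finset.sum_eq_zero, zero_add, Finset.sum_eq_sum_Ico_succ_bot (by omega)]
  · have h := hg.2 k le_rfl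
    rw [if_pos rfl] at h
    rw [grK_congr (Lambda.gammaFiltration_mul_mem _ ha) h, grK_natCast_mul _ ha, smul_smul,
      one_div_mul_cancel (by positivity), one_smul, add_sub_cancel_left]
    exact sum_mem fun m hm => Submodule.smul_mem _ _ (grK_mem_geq (Finset.mem_Ico.1 hm).1 (chC_mem m a))
  · intro m hm
    rw [Finset.mem_Ico] at hm
    rw [grK_succ (hg.mem_succ hm.2), smul_zero]

/-- Vanishing of the lower components puts a multiple in the filtration. -/
theorem exists_mem_of_components (hK : HasSplitting K P) {y : K} : ∀ {e : ℕ},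
    (∀ i < e, KGr.grK P (i : ℤ) (chC P i y) = 0) → ∃ N : ℕ, 1 ≤ N ∧ (N : K) * y ∈ gammaFiltration P e := by
  intro e
  induction e with
  | zero => exact fun _ => ⟨1, le_rfl, Lambda.gammaFiltration_zero _⟩
  | succ e ih =>
    intro h
    obtain ⟨M, hM, hMy⟩ := ih fun i hi => h i (by omega)
    have hg := (good_of_mem hK hMy).2 e le_rfl
    rw [if_pos rfl] at hg
    have h0 : KGr.grK P (e : ℤ) (chC P e ((M : K) * y)) = 0 := by
      rw [← nsmul_eq_mul, show chC P e (M • y) = M • chC P e y from map_nsmul (chH P e) M y, nsmul_eq_mul,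
        grK_natCast_mul _ (chC_mem e y), h e (by omega), smul_zero]
    rw [grK_congr (Lambda.gammaFiltration_mul_mem _ hMy) hg, grK_natCast_mul _ hMy, smul_eq_zero] at h0
    have h1 := h0.resolve_left (by exact_mod_cast e.factorial_ne_zero)
    have h2 := congrArg (piGr P e) h1
    rw [piGr_grK e e hMy, if_pos rfl, map_zero] at h2
    obtain ⟨N, hN, hNy⟩ := exists_nat_smul_eq_zero h2
    refine ⟨N * M, Nat.mul_pos hN hM, ?_⟩
    rw [← QuotientAddGroup.mk_nsmul, QuotientAddGroup.eq_zero_iff] at hNy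
    rwa [Nat.cast_mul, mul_assoc, ← nsmul_eq_mul]

theorem grK_of_components (hK : HasSplitting K P) {y : K} {e : ℕ}
    (h : ∀ i < e, KGr.grK P (i : ℤ) (chC P i y) = 0) :
    KGr.grK P (e : ℤ) y = ((1 : ℚ) / (e.factorial : ℚ)) • KGr.grK P (e : ℤ) (chC P e y) := by
  obtain ⟨N, hN, hNy⟩ := exists_mem_of_components hK h
  have hg := (good_of_mem hK hNy).2 e le_rfl
  rw [if_pos rfl] at hg
  have h0 := grK_congr (Lambda.gammaFiltration_mul_mem _ hNy) hg
  rw [← nsmul_eq_mul N y, show chC P e (N • y) = N • chC P e y from map_nsmul (chH P e) N y, nsmul_eq_mul,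
    nsmul_eq_mul, grK_natCast_mul _ (chC_mem e y), grK_natCast_mul _ hNy] at h0
  have hN0 : (N : ℚ) ≠ 0 := by exact_mod_cast Nat.one_le_iff_ne_zero.mp hN
  rw [grK_scale' hN hNy, ← inv_smul_smul₀ hN0 (KGr.grK P (e : ℤ) (chC P e y)), h0, smul_smul, smul_smul]
  congr 1
  field_simp

variable {L : Type u} [CommRing L] [LambdaOps L] {Q : PosStructure L}

theorem eigen_eq_zero (hK : HasSplitting K P) {d : ℕ} (hd : gammaFiltration P (d + 1) = ⊥) {j : ℕ}
    {τ : KGr.Gr P →ₗ[ℚ] KGr.Gr P}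
    (hτ : ∀ (n : ℕ) (a : K), a ∈ gammaFiltration P n → τ (KGr.grK P (n : ℤ) a) = (j : ℚ) ^ n • KGr.grK P (n : ℤ) a)
    {μ : ℚ} (hμ : ∀ i ≤ d, μ ≠ (j : ℚ) ^ i) {z : KGr.Gr P} (hz : τ z = μ • z) : z = 0 := by
  let q := Lagrange.nodal (range (d + 1)) fun i => (j : ℚ) ^ i
  have h0 : Polynomial.aeval τ q = 0 := gr_ext hK hd fun n a ha => by
    rw [Module.End.aeval_apply_of_mem_apply_eq_smul (hτ n a ha), LinearMap.zero_apply]
    rcases lt_or_ge d n with h | h
    · rw [grK_eq_zero_of_gt hd h ha, smul_zero]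
    · rw [Lagrange.eval_nodal_at_node (v := fun i => (j : ℚ) ^ i) (Finset.mem_range.2 (by omega)), zero_smul]
  have h1 := LinearMap.congr_fun h0 z
  rw [Module.End.aeval_apply_of_mem_apply_eq_smul hz, LinearMap.zero_apply, smul_eq_zero] at h1
  exact h1.resolve_left (Lagrange.eval_nodal_not_at_node fun i hi => hμ i (Nat.lt_succ_iff.1 (Finset.mem_range.1 hi)))

/-- A map commuting with the degree scalings is homogeneous, and is the leading term. -/
theorem isGrPush_of_commute (hK : HasSplitting K P) (hL : HasSplitting L Q) {d d' : ℕ}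
    (hd : gammaFiltration P (d + 1) = ⊥) (hd' : gammaFiltration Q (d' + 1) = ⊥)
    {τ : KGr.Gr P →ₗ[ℚ] KGr.Gr P}
    (hτ : ∀ (n : ℕ) (a : K), a ∈ gammaFiltration P n → τ (KGr.grK P (n : ℤ) a) = (2 : ℚ) ^ n • KGr.grK P (n : ℤ) a)
    {τ' : KGr.Gr Q →ₗ[ℚ] KGr.Gr Q}
    (hτ' : ∀ (n : ℕ) (a : L), a ∈ gammaFiltration Q n → τ' (KGr.grK Q (n : ℤ) a) = (2 : ℚ) ^ n • KGr.grK Q (n : ℤ) a)
    (f : K →+ L) (δ : ℤ) (G : KGr.Gr P →ₗ[ℚ] KGr.Gr Q) {u : KGr.Gr P} (hu : u - 1 ∈ geq P 1)
    (hG : ∀ x, KGr.chK Q d' (f x) = G (u * KGr.chK P d x))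
    (hcomm : ∀ z, τ' (G z) = (2 : ℚ) ^ δ • G (τ z)) : KGr.IsGrPush P Q f δ G.toAddMonoidHom := by
  intro k a ha
  show G (KGr.grK P (k : ℤ) a) = _
  have heig : ∀ (m : ℕ) (c : K), c ∈ gammaFiltration P m →
      τ' (G (KGr.grK P (m : ℤ) c)) = (2 : ℚ) ^ ((m : ℤ) + δ) • G (KGr.grK P (m : ℤ) c) := fun m c hc => by
    rw [hcomm, hτ m c hc, map_smul, smul_smul, zpow_add₀ two_ne_zero, zpow_natCast, mul_comm]
  have h2 : ∀ {a b : ℤ}, (2 : ℚ) ^ a = (2 : ℚ) ^ b → a = b := fun h =>
    zpow_right_injective₀ two_pos (by norm_num) h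
  have hout : ∀ (m : ℕ) (c : K), c ∈ gammaFiltration P m → ((m : ℤ) + δ < 0 ∨ (d' : ℤ) < (m : ℤ) + δ) →
      G (KGr.grK P (m : ℤ) c) = 0 := fun m c hc h =>
    eigen_eq_zero (j := 2) hL hd' (by exact_mod_cast hτ') (fun i hi he => by
      have := h2 (a := (m : ℤ) + δ) (b := (i : ℤ)) (by rw [zpow_natCast]; exact_mod_cast he)
      omega) (heig m c hc)
  rcases lt_or_ge ((k : ℤ) + δ) 0 with hneg | hpos
  · rw [hout k a ha (Or.inl hneg), show (k : ℤ) + δ = -(((-((k : ℤ) + δ) - 1).toNat + 1 : ℕ) : ℤ) by omega,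
      grK_neg_degree]
  obtain ⟨e, he⟩ := Int.eq_ofNat_of_zero_le hpos
  rw [he]
  have hrest : u * KGr.chK P d a - KGr.grK P (k : ℤ) a ∈ geq P (k + 1) := by
    rw [show u * KGr.chK P d a - KGr.grK P (k : ℤ) a =
      (u - 1) * (KGr.chK P d a - KGr.grK P (k : ℤ) a) + (u - 1) * KGr.grK P (k : ℤ) a +
        (KGr.chK P d a - KGr.grK P (k : ℤ) a) by ring]
    refine add_mem (add_mem (geq_anti (by omega) (mul_mem_geq hu (chK_expand hK hd ha))) ?_) (chK_expand hK hd ha)
    exact geq_anti (by omega) (mul_mem_geq hu (grK_mem_geq le_rfl ha))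
  have key : ∀ i : ℕ, i ≤ d' → i ≤ e →
      ((1 : ℚ) / (i.factorial : ℚ)) • KGr.grK Q (i : ℤ) (chC Q i (f a)) =
        if i = e then G (KGr.grK P (k : ℤ) a) else 0 := by
    intro i hid hie
    let B := Polynomial.aeval τ' (Lagrange.basis (range (d' + 1)) (fun i => (2 : ℚ) ^ i) i)
    have hinj : Set.InjOn (fun i : ℕ => (2 : ℚ) ^ i) ↑(range (d' + 1)) := fun x _ y _ h => by
      exact_mod_cast h2 (a := (x : ℤ)) (b := (y : ℤ)) (by simpa using h)
    have hBμ : ∀ (n : ℕ) (z : KGr.Gr Q), n ≤ d' → τ' z = (2 : ℚ) ^ n • z → B z = if n = i then z else 0 := by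
      intro n z hn hz
      rw [Module.End.aeval_apply_of_mem_apply_eq_smul hz]
      rcases eq_or_ne n i with rfl | h
      · rw [Lagrange.eval_basis_self hinj (Finset.mem_range.2 (by omega)), one_smul, if_pos rfl]
      · rw [Lagrange.eval_basis_of_ne (v := fun i => (2 : ℚ) ^ i) h.symm (Finset.mem_range.2 (by omega)), zero_smul,
          if_neg h]
    have hBG : ∀ z ∈ geq P (k + 1), B (G z) = 0 := by
      intro z hz
      induction hz using Submodule.span_induction with
      | mem z hz =>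
        obtain ⟨m, hm, c, hc, rfl⟩ := hz
        rcases lt_or_ge (d' : ℤ) ((m : ℤ) + δ) with h | h
        · rw [hout m c hc (Or.inr h), map_zero]
        obtain ⟨n, hn⟩ := Int.eq_ofNat_of_zero_le (show 0 ≤ (m : ℤ) + δ by omega)
        rw [hBμ n _ (by omega) (by rw [heig m c hc, hn, zpow_natCast]), if_neg (by omega)]
      | zero => rw [map_zero, map_zero]
      | add x y _ _ hx hy => rw [map_add, map_add, hx, hy, add_zero]
      | smul c x _ hx => rw [map_smul, map_smul, hx, smul_zero]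
    have h1 := congrArg B (hG a)
    rw [← sub_add_cancel (u * KGr.chK P d a) (KGr.grK P (k : ℤ) a), map_add, map_add, hBG _ hrest, zero_add,
      chK_eq, map_sum] at h1
    rw [Finset.sum_eq_single i (fun n hn hni => by
        rw [map_smul, hBμ n _ (Nat.lt_succ_iff.1 (Finset.mem_range.1 hn)) (hτ' n _ (chC_mem n _)), if_neg hni,
          smul_zero]) (fun h => absurd (Finset.mem_range.2 (by omega)) h), map_smul,
      hBμ i _ hid (hτ' i _ (chC_mem i _)), if_pos rfl] at h1
    rw [h1]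
    rcases le_or_gt e d' with hed | hed
    · rw [hBμ e _ hed (by rw [heig k a ha, he, zpow_natCast])]
      exact ite_congr (propext eq_comm) (fun _ => rfl) fun _ => rfl
    · rw [hout k a ha (Or.inr (by omega)), map_zero]
      exact (ite_self _).symm
  have hlow : ∀ i < e, KGr.grK Q (i : ℤ) (chC Q i (f a)) = 0 := by
    intro i hi
    rcases lt_or_ge d' i with h | h
    · exact grK_eq_zero_of_gt hd' h (chC_mem i _)
    · have h' := key i h hi.le
      rw [if_neg hi.ne, smul_eq_zero] at h'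
      exact h'.resolve_left (by positivity)
  rw [grK_of_components hL hlow]
  rcases le_or_gt e d' with hed | hed
  · rw [key e hed le_rfl, if_pos rfl]
  · rw [hout k a ha (Or.inr (by omega)), grK_eq_zero_of_gt hd' hed (chC_mem e _), smul_zero]

end Groth.Agent.GRR
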