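import Groth.Agent.GRR.Kvb
import Groth.Agent.GRR.Lead
import Groth.Agent.NormDef.FilModels
import Groth.Agent.K0ResLF.RRPn

/-!
Grothendieck-Riemann-Roch for a regular closed immersion into a projective space over the base.
-/

set_option autoImplicit false
set_option linter.style.haveILetI false
set_option linter.unusedSectionVars false
set_option backward.isDefEq.respectTransparency false
set_option backward.isDefEq.respectTransparency.types false
set_option maxHeartbeats 1000000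
set_option synthInstance.maxHeartbeats 200000

universe v u

open CategoryTheory CategoryTheory.Limits AlgebraicGeometry LambdaRing TensorProduct
open Groth.Agent.SGA6Ext (cls pullK kvbRing kvbLam kvbPos)
open Groth.Agent.CycPB (dualM)

attribute [local instance] HasDerivedCategory.standard

noncomputable section

namespace Groth.Agent.GRR

attribute [local instance] kvbRing kvbLam

open Groth.Agent.KRRLam (chLin chLin_tmul chLin_bijective chK_mul chK_one)

theorem lTensor_proj {R : Type} [CommRing R] {A B : Type v} [CommRing A] [CommRing B] (g : A →+ B) (a : B →+ A)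
    (hp : ∀ x y, a (x * g y) = a x * y) (t : R ⊗[ℤ] B) (w : R ⊗[ℤ] A) :
    LinearMap.lTensor R a.toIntLinearMap (t * LinearMap.lTensor R g.toIntLinearMap w) =
      LinearMap.lTensor R a.toIntLinearMap t * w := by
  induction t using TensorProduct.induction_on with
  | zero => simp
  | add t t' ht ht' => simp only [add_mul, map_add, ht, ht']
  | tmul r u =>
    induction w using TensorProduct.induction_on with
    | zero => simp
    | add w w' hw hw' => simp only [map_add, mul_add, hw, hw']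
    | tmul r' w =>
      rw [LinearMap.lTensor_tmul, Algebra.TensorProduct.tmul_mul_tmul, LinearMap.lTensor_tmul,
        LinearMap.lTensor_tmul, Algebra.TensorProduct.tmul_mul_tmul]
      exact congrArg _ (hp u w)

theorem chLin_mul {K : Type v} [CommRing K] [LambdaOps K] {P : PosStructure K} (hK : HasSplitting K P) {d : ℕ}
    (hd : gammaFiltration P (d + 1) = ⊥) (z w : ℚ ⊗[ℤ] K) : chLin P d (z * w) = chLin P d z * chLin P d w := by
  induction z using TensorProduct.induction_on with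
  | zero => simp
  | add a b ha hb => rw [add_mul, map_add, map_add, ha, hb, add_mul]
  | tmul q x =>
    induction w using TensorProduct.induction_on with
    | zero => simp
    | add a b ha hb => rw [mul_add, map_add, map_add, ha, hb, mul_add]
    | tmul r y =>
      have h : ∀ (q : ℚ) (x : K), chLin P d (q ⊗ₜ[ℤ] x) = q • KGr.chK P d x := fun q x => by
        rw [← chLin_tmul, ← map_smul, smul_tmul', smul_eq_mul, mul_one]
      rw [Algebra.TensorProduct.tmul_mul_tmul, h, h, h, chK_mul hK hd, smul_mul_smul_comm]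

theorem chLin_natCast {K : Type v} [CommRing K] [LambdaOps K] {P : PosStructure K} (d j : ℕ) :
    chLin P d (j : ℚ ⊗[ℤ] K) = (j : ℚ) • (1 : KGr.Gr P) := by
  rw [show (j : ℚ ⊗[ℤ] K) = (j : ℚ) • ((1 : ℚ) ⊗ₜ[ℤ] (1 : K)) by
    rw [← Algebra.TensorProduct.one_def, Nat.cast_smul_eq_nsmul, nsmul_one], map_smul, chLin_tmul, chK_one]

variable {X Y : Scheme.{u}}

theorem twist_neg_mul (n : ℕ) (Y : Scheme.{u}) [ConnectedSpace ↥(KRR.PY n Y)] :
    cls (Twist.twistOver n Y (-1)) * cls (Twist.twistOver n Y 1) = 1 := by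
  have hQ := KSplit.isModel_kvb (KRR.PY n Y)
  have hm1 : FlatMod.IsFinLocFree (Twist.twistOver n Y (-1)) :=
    DQCoh.isFinLocFree_of_iso' (PnReg.twUnitIso (n := n) (T := Y) (-1))
      (PnReg.isFinLocFree_twF (-1) (PnReg.isFinLocFree_unit (KRR.PY n Y)))
  have h1 : FlatMod.IsFinLocFree (Twist.twistOver n Y 1) :=
    ResDesc.isFinLocFree_of_isInvertible (PBundle.isInvertible_twistOver n Y 1)
  obtain ⟨t⟩ := PnReg.nonempty_twF_twF (Coh.structureModule (KRR.PY n Y)) (-1) 1 0 (by ring)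
  obtain ⟨t₀⟩ := PnReg.nonempty_twF_zero (Coh.structureModule (KRR.PY n Y))
  refine ((hQ.map_mul _ _ hm1 h1).trans (SGA6Ext.cls_iso ?_ ?_)).trans hQ.map_one
  · exact ((DCoh.tensorBi (X := KRR.PY n Y)).obj _).mapIso (PnReg.twUnitIso 1).symm ≪≫ t ≪≫ t₀
  · exact PnReg.isFinLocFree_twF (-1) h1

/-- Grothendieck-Riemann-Roch on the λ-rings of bundles. -/
theorem grr_kvb [IsNoetherian Y] [ConnectedSpace ↥Y] {LY : Y.Modules} (hLY : CohB1.IsAmple LY) (n : ℕ)
    (i : X ⟶ KRR.PY n Y) (hi : Mor2.IsRegularClosedImmersion i) [ConnectedSpace ↥X] {c : ℕ}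
    (hC : FlatMod.IsFinLocFreeOfRank c (Omega.conormal i))
    {dX : ℕ} (hdX : topologicalKrullDim ↥X ≤ (dX : WithBot ℕ∞))
    {dY : ℕ} (hdY : topologicalKrullDim ↥Y ≤ (dY : WithBot ℕ∞))
    [ConnectedSpace ↥(KRR.PY n Y)]
    (a : SGA6.Kvb X →+ SGA6.Kvb (KRR.PY n Y))
    (ha : KRR.IsPushCl i (AddMonoidHom.id _) (AddMonoidHom.id _) a)
    (b : SGA6.Kvb (KRR.PY n Y) →+ SGA6.Kvb Y)
    (hb : KRR.IsPushPr n Y (AddMonoidHom.id _) (AddMonoidHom.id _) b) :
    ∃ fG : KGr.Gr (kvbPos X) →+ KGr.Gr (kvbPos Y),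
      KGr.IsGrPush (kvbPos X) (kvbPos Y) (b.comp a) ((c : ℤ) - n) fG ∧
      ∀ x, KGr.chK (kvbPos Y) dY (b (a x)) =
        fG (KGr.tdK (kvbPos X) dX (((n + 1 : ℕ) : SGA6.Kvb X) *
              cls ((Scheme.Modules.pullback i).obj (Twist.twistOver n Y 1)) - 1 -
              cls (dualM (Omega.conormal i))) * KGr.chK (kvbPos X) dX x) := by
  obtain ⟨hNP, hCP⟩ := K0ResLF.RR.stable_bunPn (n := n) (Y := Y)
  haveI := hNP
  haveI := hi.1
  haveI : IsLocallyNoetherian X := LocallyOfFiniteType.isLocallyNoetherian i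
  haveI : CompactSpace ↥X := QuasiCompact.compactSpace_of_compactSpace i
  haveI : IsNoetherian X := {}
  obtain ⟨LP, hLP⟩ := NormDef.exists_isAmple_PY n hLY
  have hPe : KRR.HasEnoughLocFree (KRR.PY n Y) :=
    fun F hF => ResDesc.hasResolutionProperty_of_isAmple LP hLP F hF.1 hF.2
  have hLX := TMul.isAmple_pullback i i.isClosedEmbedding.isInducing hLP
  have hGX : GammaDim.Good X dX := ⟨inferInstance, inferInstance, ⟨_, hLX⟩, GammaDim.dimLE_of_krull hdX⟩
  have hGY : GammaDim.Good Y dY := ⟨inferInstance, inferInstance, ⟨_, hLY⟩, GammaDim.dimLE_of_krull hdY⟩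
  have hX := KSplit.isModel_kvb X
  have hP := KSplit.isModel_kvb (KRR.PY n Y)
  have hY := KSplit.isModel_kvb Y
  have hKX := KSplit.hasSplitting _ _ _ hX
  have hKY := KSplit.hasSplitting _ _ _ hY
  have hdX' : gammaFiltration (kvbPos X) (dX + 1) = ⊥ := fil_eq_bot hGX
  have hdY' : gammaFiltration (kvbPos Y) (dY + 1) = ⊥ := fil_eq_bot hGY
  obtain ⟨τ, hτ, hτch⟩ := exists_tau hKX hdX' (j := 2) one_le_two
  obtain ⟨τY, hτY, hτYch⟩ := exists_tau hKY hdY' (j := 2) one_le_two
  -- the classes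
  have hC' := SGA6Ext.finLocFree_of_rank hC
  have hO1 : FlatMod.IsFinLocFreeOfRank 1 (Twist.twistOver n Y 1) :=
    (K0ResLF.RR.bunPn n Y).hB.invertible
  have hl : FlatMod.IsFinLocFreeOfRank 1 ((Scheme.Modules.pullback i).obj (Twist.twistOver n Y 1)) :=
    Nagata.isFinLocFreeOfRank_pullback i hO1
  set l := cls ((Scheme.Modules.pullback i).obj (Twist.twistOver n Y 1)) with hldef
  set l' := cls (dualM ((Scheme.Modules.pullback i).obj (Twist.twistOver n Y 1))) with hl'def
  set C' := cls (dualM (Omega.conormal i)) with hC'def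
  set m := cls (Twist.twistOver n Y (-1)) with hmdef
  let g := KSplit.pullRing i
  have hm : g m = l' := by
    have h1 : g m * l = 1 := by
      rw [hldef, ← SGA6Ext.pullK_cls i (SGA6Ext.finLocFree_of_rank hO1)]
      show g m * g (cls (Twist.twistOver n Y 1)) = 1
      rw [← map_mul, twist_neg_mul, map_one]
    calc g m = g m * (l * l') := by rw [hldef, hl'def, cls_mul_dual hl, mul_one]
      _ = l' := by rw [← mul_assoc, h1, one_mul]
  set q := cls (KRR.twF n Y (-1) ((Scheme.Modules.pullback (KRR.pr n Y)).obj (FlatMod.freeMod Y (n + 1)))) with hqdef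
  have hfree := RelPCS.isFinLocFree_freeMod (X := Y) (n + 1)
  have hq : q = m * ((n + 1 : ℕ) : SGA6.Kvb (KRR.PY n Y)) := by
    have hm1 : FlatMod.IsFinLocFree (Twist.twistOver n Y (-1)) :=
      DQCoh.isFinLocFree_of_iso' (PnReg.twUnitIso (n := n) (T := Y) (-1))
        (PnReg.isFinLocFree_twF (-1) (PnReg.isFinLocFree_unit (KRR.PY n Y)))
    refine (hP.map_mul _ _ hm1 (DerPerf.isFinLocFree_pullback _ hfree)).symm.trans ?_
    show m * cls ((Scheme.Modules.pullback (KRR.pr n Y)).obj (FlatMod.freeMod Y (n + 1))) = _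
    rw [← SGA6Ext.pullK_cls _ hfree,
      show cls (FlatMod.freeMod Y (n + 1)) = ((n + 1 : ℕ) : SGA6.Kvb Y) from K0ResLF.phi_free hY (n + 1)]
    exact congrArg _ (map_natCast (KSplit.pullRing (KRR.pr n Y)) (n + 1))
  have hgq : g q = ((Multiset.replicate (n + 1) (l', l)).map Prod.fst).sum := by
    rw [hq, map_mul, hm, map_natCast, Multiset.map_replicate, Multiset.sum_replicate, nsmul_eq_mul, mul_comm]
  have hlines : ∀ p ∈ Multiset.replicate (n + 1) (l', l),
      (kvbPos X).IsLine p.1 ∧ (kvbPos X).IsLine p.2 ∧ p.2 * p.1 = 1 := fun p hp => by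
    rw [Multiset.eq_of_mem_replicate hp]
    exact ⟨isLine_dual hl, isLine_cls hl, cls_mul_dual hl⟩
  have hbq : g (KRR.bott (kvbPos (KRR.PY n Y)) 2 q) =
      ((Multiset.replicate (n + 1) (l', l)).map fun p => ∑ a ∈ Finset.range 2, p.1 ^ a).prod := by
    rw [K0ResLF.RR.map_bott (PB := kvbPos X) g (fun k z => (isHom_pull i).lam k z) (fun z => (isHom_pull i).aug z) 2 q]
    have haug : (kvbPos X).aug (g q) = ((n + 1 : ℕ) : ℤ) := by
      rw [hgq, map_multiset_sum, Multiset.map_replicate, Multiset.map_replicate, Multiset.sum_replicate,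
        (isLine_dual hl).2, nsmul_eq_mul, mul_one]
    rw [NormDef.bott_eq_bottN (kvbPos X) 2 haug, hgq, NormDef.bottN]
    have h := bottN_sum_lines ((Multiset.replicate (n + 1) (l', l)).map Prod.fst) (fun w hw => by
      obtain ⟨p, hp, rfl⟩ := Multiset.mem_map.1 hw
      exact (hlines p hp).1) 2
    rw [Multiset.card_map, Multiset.card_replicate, Multiset.map_map] at h
    exact h
  -- Adams-Riemann-Roch
  obtain ⟨⟨wP, hwP⟩, hall⟩ := K0ResLF.RR.adams_pushPr hLY (SGA6.Kvb (KRR.PY n Y)) (kvbPos (KRR.PY n Y)) _ hP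
    (SGA6.Kvb Y) (kvbPos Y) _ hY b hb 2 one_le_two ℚ (isUnit_iff_ne_zero.2 (by norm_num))
  let Γ : ℚ ⊗[ℤ] SGA6.Kvb (KRR.PY n Y) →ₐ[ℚ] ℚ ⊗[ℤ] SGA6.Kvb X :=
    Algebra.TensorProduct.map (AlgHom.id ℚ ℚ) g.toIntAlgHom
  set w := Γ wP with hwdef
  have hw : w * ((1 : ℚ) ⊗ₜ[ℤ] g (KRR.bott (kvbPos (KRR.PY n Y)) 2 q)) = 1 := by
    have h := congrArg Γ hwP
    rw [map_mul, map_one] at h
    exact h
  obtain ⟨a', ha', haa⟩ := NormDef.exists_push_model hP ha
  have hproj : ∀ (u : SGA6.Kvb X) (v : SGA6.Kvb (KRR.PY n Y)), a (u * g v) = a u * v := fun u v => by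
    have h1 : ∀ z, a z = a' z := fun z => (haa z).symm
    rw [h1, h1]
    exact NormDef.push_mul hPe hi ha' u v
  set θ := NormDef.bottN c 2 (cls (Omega.conormal i)) with hθdef
  let fL := (b.comp a).toIntLinearMap
  have hrr : ∀ x, (1 : ℚ) ⊗ₜ[ℤ] adamsOp 2 (b (a x)) = LinearMap.lTensor ℚ fL
      (((2 : ℕ) : ℚ ⊗[ℤ] SGA6.Kvb X) * ((1 : ℚ) ⊗ₜ[ℤ] (θ * adamsOp 2 x)) * w) := fun x => by
    rw [← Lambda.adams_eq (kvbPos Y) one_le_two, hall wP hwP (a x),
      NormDef.adams_pushCl_of_enough hPe i hi hC hX hP ha one_le_two x, Lambda.adams_eq (kvbPos X) one_le_two,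
      NormDef.bott_eq_bottN (kvbPos X) 2 (c := AddMonoidHom.id _ (KRR.cl X (Omega.conormal i))) (hX.aug_cl c _ hC),
      show fL = b.toIntLinearMap.comp a.toIntLinearMap from rfl, LinearMap.lTensor_comp, LinearMap.comp_apply]
    congr 1
    have hΓ : ∀ z, Γ z = LinearMap.lTensor ℚ g.toAddMonoidHom.toIntLinearMap z := fun z => by
      induction z using TensorProduct.induction_on with
      | zero => simp
      | add a b ha hb => simp only [map_add, ha, hb]
      | tmul r z => rw [LinearMap.lTensor_tmul]; rfl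
    have hnat : ∀ z : ℚ ⊗[ℤ] SGA6.Kvb X, LinearMap.lTensor ℚ a.toIntLinearMap (((2 : ℕ) : ℚ ⊗[ℤ] SGA6.Kvb X) * z) =
        ((2 : ℕ) : ℚ ⊗[ℤ] SGA6.Kvb (KRR.PY n Y)) * LinearMap.lTensor ℚ a.toIntLinearMap z := fun z => by
      rw [← nsmul_eq_mul, map_nsmul, nsmul_eq_mul]
    rw [hwdef, hΓ, lTensor_proj g.toAddMonoidHom a hproj, hnat, LinearMap.lTensor_tmul]
    rfl
  -- the linear map
  let E := LinearEquiv.ofBijective _ (chLin_bijective hKX hdX')
  let G : KGr.Gr (kvbPos X) →ₗ[ℚ] KGr.Gr (kvbPos Y) :=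
    ((chLin (kvbPos Y) dY).comp (fL.baseChange ℚ)).comp E.symm.toLinearMap
  have hG : ∀ z, G (chLin (kvbPos X) dX z) = chLin (kvbPos Y) dY (LinearMap.lTensor ℚ fL z) := fun z => by
    show chLin (kvbPos Y) dY (fL.baseChange ℚ (E.symm (E z))) = _
    rw [E.symm_apply_apply, LinearMap.baseChange_eq_ltensor]
  have hGch : ∀ x, G (KGr.chK (kvbPos X) dX x) = KGr.chK (kvbPos Y) dY (b (a x)) := fun x => by
    rw [← chLin_tmul, hG, LinearMap.lTensor_tmul, chLin_tmul]
    rfl
  set ω := chLin (kvbPos X) dX w with hωdef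
  have hτG : ∀ x, τY (G (KGr.chK (kvbPos X) dX x)) =
      G ((2 : ℚ) • (KGr.chK (kvbPos X) dX θ * ω * τ (KGr.chK (kvbPos X) dX x))) := fun x => by
    rw [hGch, hτYch, ← chLin_tmul, hrr, ← hG, chLin_mul hKX hdX', chLin_mul hKX hdX', chLin_natCast, chLin_tmul,
      chK_mul hKX hdX', hτch, smul_one_mul, smul_mul_assoc, Nat.cast_two]
    congr 2
    ring
  -- Todd classes
  set td := KGr.tdK (kvbPos X) dX with htd
  set T := ((n + 1 : ℕ) : SGA6.Kvb X) * l - 1 - C' with hT
  set u := td T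
  set v := td (-T)
  set A := td C'
  set B := td (((n + 1 : ℕ) : SGA6.Kvb X) * l)
  have huv : u * v = 1 := tdK_mul_neg hdX' T
  have hA' : A * td (-C') = 1 := tdK_mul_neg hdX' C'
  have h1 : td (-1) = 1 := by
    have h := tdK_mul_neg hdX' (1 : SGA6.Kvb X)
    rwa [show KGr.tdK (kvbPos X) dX (1 : SGA6.Kvb X) = 1 by rw [← Nat.cast_one]; exact tdK_natCast _ _,
      one_mul] at h
  have huA : u * A = B := by
    show td T * td C' = B
    rw [htd, ← tdK_add hdX', show T + C' = ((n + 1 : ℕ) : SGA6.Kvb X) * l + (-1) by rw [hT]; ring, tdK_add hdX']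
    exact (congrArg (_ * ·) h1).trans (mul_one _)
  have hθA : KGr.chK (kvbPos X) dX θ * τ A = (2 : ℚ) ^ c • A := by
    simpa using chK_bott_dual hGX hC one_le_two τ hτ
  have hqB : KGr.chK (kvbPos X) dX (g (KRR.bott (kvbPos (KRR.PY n Y)) 2 q)) * τ B = (2 : ℚ) ^ (n + 1) • B := by
    have h := chK_bott_lines hKX hdX' hτ _ hlines
    rw [Multiset.map_replicate Prod.snd, Multiset.sum_replicate, nsmul_eq_mul, Multiset.card_replicate, ← hbq] at h
    simpa [B, htd] using h
  have hωq : ω * KGr.chK (kvbPos X) dX (g (KRR.bott (kvbPos (KRR.PY n Y)) 2 q)) = 1 := by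
    rw [hωdef, ← chLin_tmul, ← chLin_mul hKX hdX', hw, Algebra.TensorProduct.one_def, chLin_tmul, chK_one]
  set δ : ℤ := (c : ℤ) - n with hδ
  have hcoef : (2 : ℚ) • (KGr.chK (kvbPos X) dX θ * ω) = (2 : ℚ) ^ δ • (τ u * v) := by
    have hτB : τ B = (2 : ℚ) ^ (n + 1) • (ω * B) := by
      rw [← mul_smul_comm, ← hqB, ← mul_assoc, hωq, one_mul]
    have hτA' : τ A * τ (td (-C')) = 1 := by rw [← map_mul, hA', map_one]
    have hθ : KGr.chK (kvbPos X) dX θ = (2 : ℚ) ^ c • (A * τ (td (-C'))) := by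
      rw [← smul_mul_assoc, ← hθA, mul_assoc, hτA', mul_one]
    have hu : u = B * td (-C') := by rw [← huA, mul_assoc, hA', mul_one]
    have hAv : A = B * v := by
      calc A = (u * v) * A := by rw [huv, one_mul]
        _ = (u * A) * v := by ring
        _ = B * v := by rw [huA]
    rw [hu, map_mul, hτB, hθ, hAv]
    simp only [smul_mul_assoc, smul_smul]
    rw [show (2 : ℚ) ^ δ * 2 ^ (n + 1) = 2 * 2 ^ c by
      rw [show δ = (c : ℤ) - n from hδ, zpow_sub₀ two_ne_zero, zpow_natCast, zpow_natCast, pow_succ]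
      field_simp]
    congr 1
    ring
  have hτG' : ∀ z, τY (G z) = (2 : ℚ) ^ δ • G (τ u * v * τ z) := by
    have h : τY.toLinearMap.comp G = (2 : ℚ) ^ δ • G.comp ((LinearMap.mulLeft ℚ (τ u * v)).comp τ.toLinearMap) := by
      refine LinearMap.ext fun z => ?_
      obtain ⟨y, rfl⟩ := (chLin_bijective hKX hdX').2 z
      refine LinearMap.congr_fun (Lambda.ext_one_tmul (f := (τY.toLinearMap.comp G).comp (chLin (kvbPos X) dX))
        (g := ((2 : ℚ) ^ δ • G.comp ((LinearMap.mulLeft ℚ (τ u * v)).comp τ.toLinearMap)).comp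
          (chLin (kvbPos X) dX)) fun x => ?_) y
      simp only [LinearMap.comp_apply, LinearMap.smul_apply, LinearMap.mulLeft_apply, AlgHom.toLinearMap_apply,
        chLin_tmul]
      rw [hτG, ← smul_mul_assoc, hcoef, smul_mul_assoc, map_smul]
    exact fun z => LinearMap.congr_fun h z
  let G' := G.comp (LinearMap.mulLeft ℚ v)
  have hformula : ∀ x, KGr.chK (kvbPos Y) dY (b (a x)) = G' (u * KGr.chK (kvbPos X) dX x) := fun x => by
    show _ = G (v * (u * _))
    rw [← mul_assoc, mul_comm v u, huv, one_mul, hGch]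
  refine ⟨G'.toAddMonoidHom, isGrPush_of_commute hKX hKY hdX' hdY' (τ := τ.toLinearMap) (τ' := τY.toLinearMap)
    (by simpa using hτ) (by simpa using hτY) (b.comp a) δ G' (tdK_sub_one_mem dX T) hformula fun z => ?_, hformula⟩
  show τY (G (v * z)) = (2 : ℚ) ^ δ • G (v * τ z)
  rw [hτG', map_mul τ]
  refine congrArg (fun y => (2 : ℚ) ^ δ • G y) ?_
  calc τ u * v * (τ v * τ z) = v * τ z * τ (u * v) := by rw [map_mul]; ring
    _ = v * τ z := by rw [huv, map_one, mul_one]

end Groth.Agent.GRR
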