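import Groth.Agent.GRR.Main

/-!
Grothendieck-Riemann-Roch on models of the λ-rings.
-/

set_option autoImplicit false
set_option linter.style.haveILetI false
set_option linter.unusedSectionVars false
set_option backward.isDefEq.respectTransparency false
set_option backward.isDefEq.respectTransparency.types false
set_option maxHeartbeats 1000000
set_option synthInstance.maxHeartbeats 200000

universe v w u

open CategoryTheory CategoryTheory.Limits AlgebraicGeometry LambdaRing LaurentPolynomial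
open Groth.Agent.SGA6Ext (cls pullK kvbRing kvbLam kvbPos)
open Groth.Agent.CycPB (dualM)

attribute [local instance] HasDerivedCategory.standard

noncomputable section

namespace Groth.Agent.GRR

theorem mapGr_grK_of_inv {K : Type v} [CommRing K] [LambdaOps K] {P : PosStructure K} {L : Type w} [CommRing L]
    [LambdaOps L] {Q : PosStructure L} {f : K →+* L} (hf : IsHom P Q f) {g : L →+* K} (hg : IsHom Q P g)
    (hgf : ∀ x, g (f x) = x) (n : ℤ) (x : K) : mapGr hf (KGr.grK P n x) = KGr.grK Q n (f x) := by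
  by_cases h : ∃ N : ℕ, 1 ≤ N ∧ LaurentPolynomial.C ((N : K) * x) * T (-n) ∈ KGr.rees P
  · obtain ⟨N, hN, hmem⟩ := h
    exact mapGr_grK hf hN hmem
  · have h' : ¬ ∃ N : ℕ, 1 ≤ N ∧ LaurentPolynomial.C ((N : L) * f x) * T (-n) ∈ KGr.rees Q := by
      rintro ⟨N, hN, hmem⟩
      have h2 := lmap_mem hg hmem
      rw [lmap_C_mul_T, map_mul g, map_natCast, hgf] at h2
      exact h ⟨N, hN, h2⟩
    rw [KGr.grK, dif_neg h, map_zero, KGr.grK, dif_neg h']

attribute [local instance] kvbRing kvbLam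

theorem exists_hom_model {X : Scheme.{u}} [ConnectedSpace ↥X] {K : Type v} [CommRing K] [LambdaOps K]
    {P : PosStructure K} {φ : SGA6.Kvb X →+ K} (hK : KRR.IsModel X K P φ) :
    ∃ (e : SGA6.Kvb X →+* K) (e' : K →+* SGA6.Kvb X), IsHom (kvbPos X) P e ∧ IsHom P (kvbPos X) e' ∧
      (∀ x, e x = φ x) ∧ (∀ x, e' (e x) = x) ∧ ∀ x, e (e' x) = x := by
  let e := KSplit.ringOf φ hK.map_one hK.map_mul
  let E : SGA6.Kvb X ≃+* K := RingEquiv.ofBijective e hK.bijective
  have hl : ∀ i x, e (LambdaOps.lam i x) = LambdaOps.lam i (e x) := fun i x =>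
    KSplit.map_lamK hK.map_one hK.map_mul hK.map_lam i x
  have ha : ∀ x, P.aug (e x) = (kvbPos X).aug x := fun x =>
    DFunLike.congr_fun (SGA6Ext.hom_ext_cls (f := P.aug.toAddMonoidHom.comp φ)
      (g := (kvbPos X).aug.toAddMonoidHom) fun A hA =>
      (hK.aug_cl _ A (SGA6Ext.isRank (X := X) hA)).trans
        ((KSplit.isModel_kvb X).aug_cl _ A (SGA6Ext.isRank (X := X) hA)).symm) x
  refine ⟨e, E.symm.toRingHom, ⟨hl, ha⟩, ⟨fun i x => E.injective ?_, fun x => ?_⟩, fun x => rfl,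
    E.symm_apply_apply, E.apply_symm_apply⟩
  · show E (E.symm _) = e (LambdaOps.lam i (E.symm x))
    rw [E.apply_symm_apply, hl, show e (E.symm x) = x from E.apply_symm_apply x]
  · obtain ⟨y, rfl⟩ := E.surjective x
    show (kvbPos X).aug (E.symm (E y)) = P.aug (e y)
    rw [E.symm_apply_apply, ha]

/-- Grothendieck-Riemann-Roch. -/
theorem grr {X Y : Scheme.{u}} [IsNoetherian Y] [ConnectedSpace ↥Y] {LY : Y.Modules} (hLY : CohB1.IsAmple LY) (n : ℕ)
    (i : X ⟶ KRR.PY n Y) (hi : Mor2.IsRegularClosedImmersion i) [ConnectedSpace ↥X] {c : ℕ}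
    (hC : FlatMod.IsFinLocFreeOfRank c (Omega.conormal i))
    {dX : ℕ} (hdX : topologicalKrullDim ↥X ≤ (dX : WithBot ℕ∞))
    {dY : ℕ} (hdY : topologicalKrullDim ↥Y ≤ (dY : WithBot ℕ∞))
    {KX : Type v} [CommRing KX] [LambdaOps KX] {PX : PosStructure KX} {φX : SGA6.Kvb X →+ KX}
    (hKX : KRR.IsModel X KX PX φX) {KP : Type v} [CommRing KP] [LambdaOps KP] {PP : PosStructure KP}
    {φP : SGA6.Kvb (KRR.PY n Y) →+ KP} (hKP : KRR.IsModel (KRR.PY n Y) KP PP φP) {KY : Type v} [CommRing KY]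
    [LambdaOps KY] {PY : PosStructure KY} {φY : SGA6.Kvb Y →+ KY} (hKY : KRR.IsModel Y KY PY φY)
    {a : KX →+ KP} (ha : KRR.IsPushCl i φX φP a) {b : KP →+ KY} (hb : KRR.IsPushPr n Y φP φY b) :
    ∃ fG : KGr.Gr PX →+ KGr.Gr PY, KGr.IsGrPush PX PY (b.comp a) ((c : ℤ) - n) fG ∧
      ∀ x : KX, KGr.chK PY dY (b (a x)) =
        fG (KGr.tdK PX dX (((n + 1 : ℕ) : KX) *
              φX (KRR.cl X ((Scheme.Modules.pullback i).obj (Twist.twistOver n Y 1))) - 1
              - φX (KRR.cl X (dualM (Omega.conormal i)))) * KGr.chK PX dX x) := by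
  obtain ⟨-, hCP⟩ := K0ResLF.RR.stable_bunPn (n := n) (Y := Y)
  haveI := hCP
  obtain ⟨eX, eX', hX1, hX2, hX0, hXl, hXr⟩ := exists_hom_model hKX
  obtain ⟨eY, eY', hY1, hY2, hY0, hYl, hYr⟩ := exists_hom_model hKY
  obtain ⟨a0, ha0, haa⟩ := NormDef.exists_push_model hKP ha
  let b0 : SGA6.Kvb (KRR.PY n Y) →+ SGA6.Kvb Y := eY'.toAddMonoidHom.comp (b.comp φP)
  have hb0 : KRR.IsPushPr n Y (AddMonoidHom.id _) (AddMonoidHom.id _) b0 := fun F hF hR => by
    show eY' (b (φP _)) = _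
    rw [AddMonoidHom.id_apply, AddMonoidHom.id_apply, hb F hF hR, ← hY0, hYl]
  obtain ⟨fG0, hpush, hform⟩ := grr_kvb hLY n i hi hC hdX hdY a0 ha0 b0 hb0
  have hf : ∀ x, b (a x) = eY (b0 (a0 (eX' x))) := fun x => by
    show _ = eY (eY' (b (φP (a0 (eX' x)))))
    rw [hYr, haa, ← hX0, hXr]
  refine ⟨(mapGr hY1).toLinearMap.toAddMonoidHom.comp (fG0.comp (mapGr hX2).toLinearMap.toAddMonoidHom),
    fun k x hx => ?_, fun x => ?_⟩
  · show mapGr hY1 (fG0 (mapGr hX2 _)) = _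
    rw [mapGr_grK_mem hX2 hx, hpush k _ (hX2.map_mem hx), mapGr_grK_of_inv hY1 hY2 hYl]
    exact congrArg _ (hf x).symm
  · show _ = mapGr hY1 (fG0 (mapGr hX2 _))
    rw [map_mul (mapGr hX2), mapGr_tdK, mapGr_chK, map_sub eX', map_sub eX', map_mul eX', map_natCast eX',
      map_one eX', ← hX0, ← hX0, hXl, hXl, hf, ← mapGr_chK hY1, hform]

end Groth.Agent.GRR
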